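import Cfsg.Agent.ManyPiClasses.Count
import Cfsg.Agent.SolvStruct.NilpotentHall

/-!
# Nilpotent Hall subgroups from commuting Sylow subgroups
-/

set_option autoImplicit false
set_option linter.unusedSectionVars false
set_option linter.style.haveILetI false

namespace Cfsg.Lib.ManyPiClasses

open Subgroup
open Cfsg.Lib.ClassCount
open scoped commutatorElement

universe u

variable {G : Type u} [Group G] [Finite G]

/-- The join of two nilpotent subgroups centralising each other, of coprime orders. -/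
theorem product_props {H Q : Subgroup G} (hcomm : Q ≤ centralizer (H : Set G))
    (hcop : (Nat.card H).Coprime (Nat.card Q)) (hH : Group.IsNilpotent H) (hQ : Group.IsNilpotent Q) :
    Nat.card ↥(H ⊔ Q) = Nat.card H * Nat.card Q ∧ Group.IsNilpotent ↥(H ⊔ Q) := by
  have hc : ∀ (a : H) (b : Q), Commute (H.subtype a) (Q.subtype b) := fun a b =>
    Subgroup.mem_centralizer_iff.1 (hcomm b.2) a a.2
  set φ := MonoidHom.noncommCoprod H.subtype Q.subtype hc
  have hinj : Function.Injective φ := (MonoidHom.noncommCoprod_injective _ _ hc).2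
    ⟨H.subtype_injective, Q.subtype_injective, by
      rw [H.range_subtype, Q.range_subtype, disjoint_iff]
      exact Subgroup.inf_eq_bot_of_coprime hcop⟩
  have hrange : φ.range = H ⊔ Q := by
    rw [MonoidHom.noncommCoprod_range, H.range_subtype, Q.range_subtype]
  let e : H × Q ≃* ↥(H ⊔ Q) := (MonoidHom.ofInjective hinj).trans (MulEquiv.subgroupCongr hrange)
  exact ⟨by rw [← Nat.card_congr e.toEquiv, Nat.card_prod],
    Group.nilpotent_of_surjective e.toMonoidHom e.surjective⟩

/-- Subgroups of prime power order for different primes in a nilpotent group centralise each other. -/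
theorem centralize_in_nilpotent {H R Q : Subgroup G} (hH : Group.IsNilpotent H) {r q : ℕ}
    [Fact r.Prime] [Fact q.Prime] (hrq : r ≠ q) (hR : IsPGroup r R) (hQ : IsPGroup q Q) (hRH : R ≤ H)
    (hQH : Q ≤ H) : Q ≤ centralizer (R : Set G) := by
  intro y hy
  rw [mem_centralizer_iff]
  intro x hx
  obtain ⟨i, hi⟩ := IsPGroup.iff_orderOf.1 hR ⟨x, hx⟩
  obtain ⟨j, hj⟩ := IsPGroup.iff_orderOf.1 hQ ⟨y, hy⟩
  rw [Subgroup.orderOf_mk] at hi hj
  have h := Cfsg.Lib.SolvStruct.commute_of_coprime_of_nilpotent (K := H) hrq (x := ⟨x, hRH hx⟩) (y := ⟨y, hQH hy⟩)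
    ⟨i, by rw [Subgroup.orderOf_mk, hi]⟩ ⟨j, by rw [Subgroup.orderOf_mk, hj]⟩
  exact congrArg Subtype.val h.eq

/-- A prime dividing a π-part is in π. -/
theorem mem_of_dvd_piPart {π : Finset ℕ} (hπ : ∀ r ∈ π, r.Prime) {r : ℕ} (hr : r.Prime)
    (h : r ∣ piPart π G) : r ∈ π := by
  obtain ⟨t, ht, hd⟩ := (Prime.dvd_finsetProd_iff hr.prime _).1 h
  rwa [(Nat.prime_dvd_prime_iff_eq hr (hπ t ht)).1 (hr.dvd_of_dvd_pow hd)]

theorem pow_dvd_piPart {π : Finset ℕ} {r : ℕ} (hr : r ∈ π) :
    r ^ (Nat.card G).factorization r ∣ piPart π G :=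
  Finset.dvd_prod_of_mem (fun r => r ^ (Nat.card G).factorization r) hr

/-- A subgroup of order the π-part is a Hall subgroup. -/
theorem hall_coprime {π : Finset ℕ} (hπ : ∀ r ∈ π, r.Prime) {H : Subgroup G}
    (hH : Nat.card H = piPart π G) : (Nat.card H).Coprime H.index := by
  refine Nat.coprime_of_dvd fun r hr hd hi => ?_
  have hrπ : r ∈ π := mem_of_dvd_piPart hπ hr (hH ▸ hd)
  have h1 : r ^ (Nat.card G).factorization r * r ∣ Nat.card G := by
    have h2 : r ^ (Nat.card G).factorization r * r ∣ Nat.card H * H.index :=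
      Nat.mul_dvd_mul (hH ▸ pow_dvd_piPart (G := G) hrπ) hi
    rwa [H.card_mul_index] at h2
  rw [← pow_succ] at h1
  exact Nat.pow_succ_factorization_not_dvd Nat.card_pos.ne' hr h1

/-- A Hall subgroup contains Sylow subgroups. -/
theorem exists_sylow_le {π : Finset ℕ} {H : Subgroup G}
    (hH : Nat.card H = piPart π G) {r : ℕ} [Fact r.Prime] (hr : r ∈ π) :
    ∃ R : Sylow r G, (R : Subgroup G) ≤ H := by
  obtain ⟨R₀, hR₀⟩ := Sylow.exists_subgroup_card_pow_prime r (G := H) (hH ▸ pow_dvd_piPart (G := G) hr)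
  refine ⟨Sylow.ofCard (R₀.map H.subtype) ?_, ?_⟩
  · rw [Subgroup.card_subtype, hR₀]
  · rw [Sylow.coe_ofCard]; exact map_subtype_le _

/-- Pairwise centralising Sylow subgroups make a nilpotent Hall subgroup. -/
theorem assemble {π : Finset ℕ} (hπ : ∀ r ∈ π, r.Prime) (R : ℕ → Subgroup G)
    (hR : ∀ r ∈ π, IsPGroup r (R r) ∧ Nat.card (R r) = r ^ (Nat.card G).factorization r)
    (hc : ∀ r ∈ π, ∀ t ∈ π, r ≠ t → R t ≤ centralizer (R r : Set G)) :
    ∃ H : Subgroup G, Nat.card H = piPart π G ∧ Group.IsNilpotent H ∧ (∀ r ∈ π, R r ≤ H) ∧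
      H ≤ π.sup R ∧
      ∀ A : Subgroup G, (∀ r ∈ π, ⁅R r, R r⁆ ≤ A) → ⁅H, H⁆ ≤ A := by
  classical
  induction π using Finset.induction_on with
  | empty =>
    refine ⟨⊥, by simp [piPart], inferInstance, by simp, bot_le, fun A _ => ?_⟩
    rw [Subgroup.commutator_le]
    intro a ha b _
    rw [mem_bot.1 ha, commutatorElement_one_left]
    exact one_mem A
  | insert q σ hq ih =>
    obtain ⟨H, hHc, hHn, hHR, hHle, hHA⟩ := ih (fun r hr => hπ r (Finset.mem_insert_of_mem hr))
      (fun r hr => hR r (Finset.mem_insert_of_mem hr))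
      (fun r hr t ht => hc r (Finset.mem_insert_of_mem hr) t (Finset.mem_insert_of_mem ht))
    haveI : Fact q.Prime := ⟨hπ q (Finset.mem_insert_self q σ)⟩
    obtain ⟨hQp, hQc⟩ := hR q (Finset.mem_insert_self q σ)
    have hcomm : R q ≤ centralizer (H : Set G) := by
      rw [le_centralizer_iff]
      refine hHle.trans (Finset.sup_le fun r hr => ?_)
      rw [le_centralizer_iff]
      exact hc r (Finset.mem_insert_of_mem hr) q (Finset.mem_insert_self q σ) fun e => hq (e ▸ hr)
    have hcop : (Nat.card H).Coprime (Nat.card (R q)) := by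
      rw [hQc]
      refine Nat.Coprime.pow_right _ (Nat.Coprime.symm ((hπ q (Finset.mem_insert_self q σ)).coprime_iff_not_dvd.2
        fun hd => hq (mem_of_dvd_piPart (fun r hr => hπ r (Finset.mem_insert_of_mem hr))
          (hπ q (Finset.mem_insert_self q σ)) (hHc ▸ hd))))
    obtain ⟨hcard, hnil⟩ := product_props hcomm hcop hHn hQp.isNilpotent
    refine ⟨H ⊔ R q, ?_, hnil, fun r hr => ?_, ?_, fun A hA => ?_⟩
    · rw [hcard, hHc, hQc, piPart, piPart, Finset.prod_insert hq, mul_comm]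
    · rcases Finset.mem_insert.1 hr with rfl | hr
      · exact le_sup_right
      · exact (hHR r hr).trans le_sup_left
    · rw [Finset.sup_insert, sup_comm]
      exact sup_le_sup le_rfl hHle
    · have hAH := hHA A fun r hr => hA r (Finset.mem_insert_of_mem hr)
      have hAQ := hA q (Finset.mem_insert_self q σ)
      rw [Subgroup.commutator_le] at hAH hAQ ⊢
      have hdec : ∀ z ∈ H ⊔ R q, ∃ a ∈ H, ∃ b ∈ R q, z = a * b := by
        intro z hz
        have hcm : ∀ (a : H) (b : R q), Commute (H.subtype a) ((R q).subtype b) := fun a b =>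
          Subgroup.mem_centralizer_iff.1 (hcomm b.2) a a.2
        rw [← H.range_subtype, ← (R q).range_subtype, ← MonoidHom.noncommCoprod_range _ _ hcm] at hz
        obtain ⟨⟨a, b⟩, rfl⟩ := hz
        exact ⟨a, a.2, b, b.2, rfl⟩
      intro z hz w hw
      obtain ⟨a, ha, b, hb, rfl⟩ := hdec z hz
      obtain ⟨c, hcH, d, hd, rfl⟩ := hdec w hw
      have k1 : ∀ {u v : G}, u ∈ H → v ∈ R q → Commute v u := fun hu hv =>
        (Subgroup.mem_centralizer_iff.1 (hcomm hv) _ hu).symm
      have e : ⁅a * b, c * d⁆ = ⁅a, c⁆ * ⁅b, d⁆ := by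
        rw [commutatorElement_def, commutatorElement_def, commutatorElement_def]
        calc a * b * (c * d) * (a * b)⁻¹ * (c * d)⁻¹
            = a * (b * c) * d * b⁻¹ * a⁻¹ * d⁻¹ * c⁻¹ := by group
          _ = a * (c * b) * d * b⁻¹ * a⁻¹ * d⁻¹ * c⁻¹ := by rw [(k1 hcH hb).eq]
          _ = a * c * (b * d * b⁻¹) * (a⁻¹ * d⁻¹) * c⁻¹ := by group
          _ = a * c * (b * d * b⁻¹) * (d⁻¹ * a⁻¹) * c⁻¹ := by rw [(k1 (inv_mem ha) (inv_mem hd)).eq]
          _ = a * c * ((b * d * b⁻¹ * d⁻¹) * (a⁻¹ * c⁻¹)) := by group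
          _ = a * c * ((a⁻¹ * c⁻¹) * (b * d * b⁻¹ * d⁻¹)) := by
            rw [(k1 (mul_mem (inv_mem ha) (inv_mem hcH))
              (mul_mem (mul_mem (mul_mem hb hd) (inv_mem hb)) (inv_mem hd))).eq]
          _ = _ := by group
      rw [e]
      exact mul_mem (hAH a ha c hcH) (hAQ b hb d hd)

/-- A subgroup whose π-part is more than a `1/p` share has the full π-part. -/
theorem piPart_eq_of_lt {π : Finset ℕ} (hπ : ∀ r ∈ π, r.Prime) {p : ℕ} (hp : ∀ r ∈ π, p ≤ r)
    (C : Subgroup G) (h : piPart π G < p * piPart π C) : piPart π C = piPart π G := by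
  have hd : piPart π C ∣ piPart π G := Finset.prod_dvd_prod_of_dvd _ _ fun r _ =>
    pow_dvd_pow r ((Nat.factorization_le_iff_dvd Nat.card_pos.ne' Nat.card_pos.ne').2 C.card_subgroup_dvd_card r)
  obtain ⟨t, ht⟩ := hd
  have htp : t < p := Nat.lt_of_mul_lt_mul_right (a := piPart π C) (by rwa [mul_comm t, ← ht])
  have ht1 : t = 1 := by
    by_contra hne
    obtain ⟨r, hr, hrd⟩ := Nat.exists_prime_and_dvd hne
    have hrπ : r ∈ π := mem_of_dvd_piPart (G := G) hπ hr (ht ▸ hrd.mul_left _)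
    have ht0 : 0 < t := Nat.pos_of_ne_zero fun e => by
      rw [e, mul_zero] at ht
      exact (piPart_pos (G := G) π hπ).ne' ht
    have := hp r hrπ
    have := Nat.le_of_dvd ht0 hrd
    omega
  rw [ht, ht1, mul_one]

theorem factorization_eq_of_piPart {π : Finset ℕ} (hπ : ∀ r ∈ π, r.Prime) (C : Subgroup G)
    (h : piPart π C = piPart π G) {r : ℕ} (hr : r ∈ π) :
    (Nat.card C).factorization r = (Nat.card G).factorization r := by
  refine le_antisymm ((Nat.factorization_le_iff_dvd Nat.card_pos.ne' Nat.card_pos.ne').2 C.card_subgroup_dvd_card r) ?_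
  have h1 : r ^ (Nat.card G).factorization r ∣ Nat.card C := by
    have h2 : piPart π C ∣ Nat.card C := by
      refine Finset.prod_dvd_of_isRelPrime ?_ fun t _ => Nat.ordProj_dvd _ _
      intro a ha b hb hab
      exact Nat.coprime_iff_isRelPrime.1 (((Nat.coprime_primes (hπ a ha) (hπ b hb)).2 hab).pow _ _)
    exact (h ▸ pow_dvd_piPart (G := G) hr).trans h2
  exact ((hπ r hr).pow_dvd_iff_le_factorization Nat.card_pos.ne').1 h1

/-- A Sylow subgroup of a subgroup of full `r`-part is one of the whole group. -/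
theorem exists_sylow_eq_map {r : ℕ} [Fact r.Prime] (C : Subgroup G) (S : Sylow r C)
    (h : (Nat.card C).factorization r = (Nat.card G).factorization r) :
    ∃ R : Sylow r G, (R : Subgroup G) = (S : Subgroup C).map C.subtype :=
  ⟨Sylow.ofCard _ (by rw [Subgroup.card_subtype, S.card_eq_multiplicity, h]), Sylow.coe_ofCard _ _⟩

end Cfsg.Lib.ManyPiClasses
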