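import Cfsg.Agent.SolvStruct.ClassCount
import Cfsg.Agent.SolvStruct.ConjPi

/-!
# Bounds for the number of classes of π-elements
-/

set_option autoImplicit false
set_option linter.unusedSectionVars false
set_option linter.style.haveILetI false

namespace Cfsg.Lib.ManyPiClasses

open Subgroup
open Cfsg.Lib.ClassCount

universe u

variable {G : Type u} [Group G] [Finite G]

theorem piPart_mul_of_disjoint {σ τ : Finset ℕ} (h : Disjoint σ τ) :
    piPart (σ ∪ τ) G = piPart σ G * piPart τ G := Finset.prod_union h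

theorem piPart_singleton (q : ℕ) : piPart {q} G = q ^ (Nat.card G).factorization q :=
  Finset.prod_singleton _ _

theorem card_sylow {q : ℕ} [Fact q.Prime] (Q : Sylow q G) :
    Nat.card (Q : Subgroup G) = piPart {q} G := by
  rw [piPart_singleton, Q.card_eq_multiplicity]

/-- Classes of π-elements through the classes of their σ-parts. -/
theorem kpi_le_sum {π σ τ : Finset ℕ} (hπ : π ⊆ σ ∪ τ) [Fintype (Cl (G := G) σ)] (a : Cl (G := G) σ → G)
    (hac : ∀ c, ConjClasses.mk (a c) = c.1) :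
    kpi π G ≤ ∑ c : Cl (G := G) σ, kpi τ ↥(centralizer ({a c} : Set G)) := by
  classical
  choose b hb hbc using exists_pi_rep (G := G) (π := π)
  have hkey : ∀ c : Cl (G := G) π, ∃ (d : Cl (G := G) σ) (y : ↥(centralizer ({a d} : Set G))),
      IsPi τ y ∧ ConjClasses.mk (a d * (y : G)) = c.1 := by
    intro c
    obtain ⟨u, v, hu, hv, huv, hSu, hSv⟩ := Cfsg.Lib.SolvStruct.exists_piPart (fun r => r ∈ σ) (b c)
    have hcomm : Commute u v := Cfsg.Lib.SolvStruct.commute_of_mem_zpowers hu hv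
    refine ⟨⟨ConjClasses.mk u, fun x hx => ?_⟩, ?_⟩
    · exact IsPi.of_isConj (ConjClasses.mk_eq_mk_iff_isConj.1 (ConjClasses.mem_carrier_iff_mk_eq.1 hx).symm) hSu
    set d : Cl (G := G) σ := ⟨ConjClasses.mk u, _⟩
    obtain ⟨g, hg⟩ := isConj_iff.1 (ConjClasses.mk_eq_mk_iff_isConj.1 (hac d).symm : IsConj u (a d))
    have hy : g * v * g⁻¹ ∈ centralizer ({a d} : Set G) := by
      rw [mem_centralizer_singleton_iff, ← hg]
      calc g * v * g⁻¹ * (g * u * g⁻¹) = g * (v * u) * g⁻¹ := by group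
        _ = g * (u * v) * g⁻¹ := by rw [hcomm.eq]
        _ = _ := by group
    refine ⟨⟨_, hy⟩, fun r hr hd => ?_, ?_⟩
    · rw [← Subgroup.orderOf_coe, show orderOf (g * v * g⁻¹) = orderOf v from (MulAut.conj g).orderOf_eq v] at hd
      exact (Finset.mem_union.1 (hπ (hb c r hr (hd.trans (orderOf_dvd_of_mem_zpowers hv))))).resolve_left (hSv r hr hd)
    · rw [← hbc c, ← huv, ConjClasses.mk_eq_mk_iff_isConj]
      refine (isConj_iff.2 ⟨g, ?_⟩).symm
      show g * (u * v) * g⁻¹ = a _ * (g * v * g⁻¹)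
      rw [← hg]; group
  choose d y hy hyc using hkey
  let F : Cl (G := G) π → Σ d : Cl (G := G) σ, Cl (G := ↥(centralizer ({a d} : Set G))) τ := fun c =>
    ⟨d c, ⟨ConjClasses.mk (y c), fun x hx =>
      IsPi.of_isConj (ConjClasses.mk_eq_mk_iff_isConj.1 (ConjClasses.mem_carrier_iff_mk_eq.1 hx).symm) (hy c)⟩⟩
  have hFinj : Function.Injective F := by
    intro c e hce
    have hrec : ∀ s t : (Σ d : Cl (G := G) σ, Cl (G := ↥(centralizer ({a d} : Set G))) τ), s = t →
        ∀ (u : ↥(centralizer ({a s.1} : Set G))) (w : ↥(centralizer ({a t.1} : Set G))),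
          ConjClasses.mk u = s.2.1 → ConjClasses.mk w = t.2.1 →
          ConjClasses.mk (a s.1 * (u : G)) = ConjClasses.mk (a t.1 * (w : G)) := by
      rintro s _ rfl u w hu hw
      obtain ⟨g, hg⟩ := isConj_iff.1 (ConjClasses.mk_eq_mk_iff_isConj.1 (hu.trans hw.symm))
      rw [ConjClasses.mk_eq_mk_iff_isConj, isConj_iff]
      refine ⟨g, ?_⟩
      have h1 : (g : G) * a s.1 = a s.1 * g := mem_centralizer_singleton_iff.1 g.2
      have h2 : (g : G) * u * (g : G)⁻¹ = w := congrArg Subtype.val hg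
      calc (g : G) * (a s.1 * (u : G)) * (g : G)⁻¹ = ((g : G) * a s.1) * (g : G)⁻¹ * ((g : G) * u * (g : G)⁻¹) := by group
        _ = a s.1 * (w : G) := by rw [h1, h2, mul_inv_cancel_right]
    refine Subtype.ext ?_
    rw [← hyc c, ← hyc e]
    exact hrec (F c) (F e) hce (y c) (y e) rfl rfl
  exact (Nat.card_le_card_of_injective F hFinj).trans (le_of_eq Nat.card_sigma)

/-- The bound through a set of primes. -/
theorem kpi_le_sub {π σ τ : Finset ℕ} (hπ : π ⊆ σ ∪ τ) (hτ : ∀ r ∈ τ, r.Prime) :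
    kpi π G ≤ kpi σ G * piPart τ G := by
  letI : Fintype (Cl (G := G) σ) := Fintype.ofFinite _
  choose a _ hac using exists_pi_rep (G := G) (π := σ)
  refine (kpi_le_sum hπ a hac).trans ?_
  refine (Finset.sum_le_card_nsmul _ _ (piPart τ G) fun c _ =>
    (kpi_le τ hτ _).trans (piPart_subgroup_le τ hτ _)).trans ?_
  simp [kpi, Nat.card_eq_fintype_card]

/-- The hypothesis passes to subsets of the primes. -/
theorem many_of_subset {p : ℕ} {π σ : Finset ℕ} (hπ : ∀ r ∈ π, r.Prime) (hσ : σ ⊆ π)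
    (h : piPart π G < p * kpi π G) : piPart σ G < p * kpi σ G := by
  have h1 : kpi π G ≤ kpi σ G * piPart (π \ σ) G :=
    kpi_le_sub (by rw [Finset.union_sdiff_of_subset hσ]) fun r hr => hπ r (Finset.mem_sdiff.1 hr).1
  have h2 : piPart π G = piPart σ G * piPart (π \ σ) G := by
    rw [← piPart_mul_of_disjoint Finset.disjoint_sdiff, Finset.union_sdiff_of_subset hσ]
  by_contra hcon
  have h3 := Nat.mul_le_mul_left p h1
  have h4 := Nat.mul_le_mul_right (piPart (π \ σ) G) (not_lt.1 hcon)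
  rw [h2] at h
  rw [← mul_assoc] at h3
  omega

/-- An element moved by an element of prime power order has at least that many conjugates. -/
theorem exists_conj_finset {q : ℕ} (hq : q.Prime) {y x : G} (hy : ∃ k, orderOf y = q ^ k) (hne : ¬ Commute y x) :
    ∃ t : Finset G, q ≤ t.card ∧ ∀ z ∈ t, ∃ i : ℕ, z = y ^ i * x * (y ^ i)⁻¹ := by
  classical
  refine ⟨(Finset.range q).image fun i => y ^ i * x * (y ^ i)⁻¹, ?_, fun z hz => ?_⟩
  · rw [Finset.card_image_of_injOn, Finset.card_range]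
    have key : ∀ i j, j < q → i < j → y ^ i * x * (y ^ i)⁻¹ ≠ y ^ j * x * (y ^ j)⁻¹ := by
      intro i j hj hij e
      refine hne ?_
      have hfix : Commute (y ^ (j - i)) x := by
        refine (mul_inv_eq_iff_eq_mul.1 ?_)
        calc y ^ (j - i) * x * (y ^ (j - i))⁻¹ = (y ^ i)⁻¹ * (y ^ j * x * (y ^ j)⁻¹) * y ^ i := by
              rw [show y ^ j = y ^ i * y ^ (j - i) by rw [← pow_add, Nat.add_sub_cancel' hij.le]]; group
          _ = x := by rw [← e]; group
      obtain ⟨k, hk⟩ := hy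
      have hcop : (j - i).Coprime (orderOf y) := by
        rw [hk]
        exact Nat.Coprime.pow_right _ (Nat.Coprime.symm (hq.coprime_iff_not_dvd.2 fun hd => by
          have := Nat.le_of_dvd (by omega) hd; omega))
      obtain ⟨m, hm⟩ := exists_pow_eq_self_of_coprime hcop
      rw [← hm]
      exact hfix.pow_left m
    intro i hi j hj e
    rw [Finset.mem_coe, Finset.mem_range] at hi hj
    rcases lt_trichotomy i j with hl | hl | hl
    · exact absurd e (key i j hj hl)
    · exact hl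
    · exact absurd e.symm (key j i hi hl)
  · obtain ⟨i, -, rfl⟩ := Finset.mem_image.1 hz
    exact ⟨i, rfl⟩

/-- The class count through the fixed points of an element of prime power order normalising a Sylow subgroup. -/
theorem kpi_fixed_bound {r q : ℕ} [Fact r.Prime] (hq : q.Prime) (R : Sylow r G) {y : G}
    (hy : y ∈ normalizer ((R : Subgroup G) : Set G)) (hyq : ∃ k, orderOf y = q ^ k) :
    q * kpi {r} G + Nat.card ↥((R : Subgroup G) ⊓ centralizer ({y} : Set G)) ≤
      q * Nat.card ↥((R : Subgroup G) ⊓ centralizer ({y} : Set G)) + Nat.card (R : Subgroup G) := by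
  classical
  haveI : Fintype G := Fintype.ofFinite G
  let F : Finset G := Finset.univ.filter fun x => x ∈ (R : Subgroup G) ⊓ centralizer ({y} : Set G)
  have hFc : F.card = Nat.card ↥((R : Subgroup G) ⊓ centralizer ({y} : Set G)) := by
    rw [Nat.card_eq_fintype_card, Fintype.card_subtype]
  rw [← hFc]
  refine count_classes R F q (fun x hx hxF => ?_) fun x hx => (Finset.mem_filter.1 hx).2.1
  obtain ⟨t, ht, htm⟩ := exists_conj_finset hq hyq (x := x) fun hc =>
    hxF (Finset.mem_filter.2 ⟨Finset.mem_univ _, hx, mem_centralizer_singleton_iff.2 hc.symm.eq⟩)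
  refine ⟨t, ht, fun z hz => ?_⟩
  obtain ⟨i, rfl⟩ := htm z hz
  refine ⟨(mem_normalizer_iff.1 (pow_mem hy i) x).1 hx, fun hzF => hxF ?_, isConj_iff.2 ⟨y ^ i, rfl⟩⟩
  have h1 := mem_centralizer_singleton_iff.1 (Finset.mem_filter.1 hzF).2.2
  refine Finset.mem_filter.2 ⟨Finset.mem_univ _, hx, mem_centralizer_singleton_iff.2 ?_⟩
  calc x * y = (y ^ i)⁻¹ * ((y ^ i * x * (y ^ i)⁻¹) * y) * y ^ i := by group
    _ = (y ^ i)⁻¹ * (y * (y ^ i * x * (y ^ i)⁻¹)) * y ^ i := by rw [h1]
    _ = y * x := by group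

/-- The fixed points of an element of `q`-power order on an `r`-group. -/
theorem card_fixed_modEq {r q : ℕ} [Fact q.Prime] (R : Subgroup G) {y : G}
    (hy : y ∈ normalizer (R : Set G)) (hyq : ∃ k, orderOf y = q ^ k) :
    Nat.card R ≡ Nat.card ↥(R ⊓ centralizer ({y} : Set G)) [MOD q] := by
  classical
  haveI : Fintype R := Fintype.ofFinite R
  obtain ⟨k, hk⟩ := hyq
  let f : Function.End R := fun x => ⟨y * x * y⁻¹, (mem_normalizer_iff.1 hy x).1 x.2⟩
  have hpow : ∀ (n : ℕ) (x : R), (((f ^ n) x : R) : G) = y ^ n * x * (y ^ n)⁻¹ := by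
    intro n
    induction n with
    | zero => intro x; rw [pow_zero f, pow_zero, one_mul, inv_one, mul_one]; rfl
    | succ n ih =>
      intro x
      rw [pow_succ', show ((f * f ^ n) x) = f ((f ^ n) x) from rfl]
      show y * ((f ^ n) x : R) * y⁻¹ = _
      rw [ih x, pow_succ']
      group
  have hf : f ^ q ^ k = 1 := funext fun x => Subtype.ext (by
    rw [hpow, ← hk, pow_orderOf_eq_one, one_mul, inv_one, mul_one]; rfl)
  have h := Equiv.Perm.card_fixedPoints_modEq hf
  rw [← Nat.card_eq_fintype_card, ← Nat.card_eq_fintype_card] at h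
  refine h.trans (congrArg (· % q) ?_)
  refine (Nat.card_congr ⟨fun x => ⟨(x : R), (x : R).2, mem_centralizer_singleton_iff.2 ?_⟩,
    fun x => ⟨⟨x, x.2.1⟩, ?_⟩, fun x => rfl, fun x => rfl⟩)
  · have h1 : y * ((x : R) : G) * y⁻¹ = ((x : R) : G) := congrArg Subtype.val x.2
    exact (mul_inv_eq_iff_eq_mul.1 h1).symm
  · exact Subtype.ext (mul_inv_eq_iff_eq_mul.2 (mem_centralizer_singleton_iff.1 x.2.2).symm)

/-- Fixed points lose at least a factor congruent to one. -/
theorem fixed_index {r q : ℕ} [hr : Fact r.Prime] [hq : Fact q.Prime] (hne : r ≠ q) (R : Sylow r G) {y : G}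
    (hy : y ∈ normalizer ((R : Subgroup G) : Set G)) (hyq : ∃ k, orderOf y = q ^ k)
    (hyc : y ∉ centralizer ((R : Subgroup G) : Set G)) :
    ∃ j, 1 ≤ j ∧ r ^ j ≡ 1 [MOD q] ∧
      Nat.card ↥((R : Subgroup G) ⊓ centralizer ({y} : Set G)) * r ^ j = Nat.card (R : Subgroup G) := by
  have hlt : ¬ (R : Subgroup G) ≤ centralizer ({y} : Set G) := fun h => hyc fun s hs =>
    mem_centralizer_singleton_iff.1 (h hs)
  obtain ⟨b, hb⟩ := IsPGroup.iff_card.1 R.2
  obtain ⟨a, ha, hfa⟩ := (Nat.dvd_prime_pow hr.out).1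
    (hb ▸ card_dvd_of_le (inf_le_left : (R : Subgroup G) ⊓ centralizer ({y} : Set G) ≤ R))
  have hlt' : a < b := lt_of_le_of_ne ha fun e => hlt fun x hx => by
    subst e
    have := eq_of_le_of_card_ge (inf_le_left : (R : Subgroup G) ⊓ centralizer ({y} : Set G) ≤ R)
      (le_of_eq (hb.trans hfa.symm))
    exact (this.ge hx).2
  refine ⟨b - a, by omega, ?_, by rw [hfa, hb, ← pow_add]; congr 1; omega⟩
  have h := card_fixed_modEq (r := r) (q := q) (R : Subgroup G) hy hyq
  rw [hfa, hb, show b = a + (b - a) by omega, pow_add] at h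
  have hcop : Nat.gcd q (r ^ a) = 1 :=
    Nat.Coprime.pow_right _ ((Nat.coprime_primes hq.out hr.out).2 (Ne.symm hne))
  exact Nat.ModEq.cancel_left_of_coprime hcop (by simpa using h)

/-- A larger prime acting on a Sylow subgroup leaves few classes. -/
theorem orbit_bound {r q : ℕ} [hr : Fact r.Prime] [hq : Fact q.Prime] (hrq : r < q) (R : Sylow r G) {y : G}
    (hy : y ∈ normalizer ((R : Subgroup G) : Set G)) (hyq : ∃ k, orderOf y = q ^ k)
    (hyc : y ∉ centralizer ((R : Subgroup G) : Set G)) : r * kpi {r} G ≤ Nat.card (R : Subgroup G) := by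
  obtain ⟨j, hj, hmod, hf⟩ := fixed_index hrq.ne R hy hyq hyc
  have hj2 : 2 ≤ j := by
    by_contra hlt
    rw [show j = 1 by omega, pow_one, Nat.ModEq, Nat.mod_eq_of_lt hrq, Nat.mod_eq_of_lt hq.out.one_lt] at hmod
    exact hr.out.ne_one hmod
  have hb := kpi_fixed_bound hq.out R hy hyq
  set f := Nat.card ↥((R : Subgroup G) ⊓ centralizer ({y} : Set G))
  set c := Nat.card (R : Subgroup G)
  have hfr : f * r ^ 2 ≤ c := hf ▸ Nat.mul_le_mul_left f (Nat.pow_le_pow_right hr.out.pos hj2)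
  refine Nat.le_of_mul_le_mul_left ?_ (Nat.mul_pos hq.out.pos hr.out.pos)
  have h1 : r ^ 2 * (q * kpi {r} G) + r ^ 2 * f ≤ q * (f * r ^ 2) + r ^ 2 * c := by
    have := Nat.mul_le_mul_left (r ^ 2) hb; ring_nf at this ⊢; omega
  obtain ⟨w, rfl⟩ : ∃ w, q = w + 1 := ⟨q - 1, by omega⟩
  have h2 : (w + 1) * r * (r * kpi {r} G) ≤ w * (f * r ^ 2) + r ^ 2 * c := by
    ring_nf at h1 ⊢; omega
  refine h2.trans ?_
  obtain ⟨d, rfl⟩ : ∃ d, w = r + d := ⟨w - r, by omega⟩
  obtain ⟨e, rfl⟩ : ∃ e, r = e + 2 := ⟨r - 2, by have := hr.out.two_le; omega⟩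
  have h3 := Nat.mul_le_mul_left (e + 2 + d) hfr
  have h4 : (e + 2 + d) * c + (e + 2) ^ 2 * c ≤ (e + 2 + d + 1) * (e + 2) * c := by
    ring_nf; omega
  omega

/-- The centre of a nonabelian Sylow subgroup gives few classes. -/
theorem nonabelian_bound {p : ℕ} [hp : Fact p.Prime] (P : Sylow p G) (h : ¬ IsMulCommutative ↥(P : Subgroup G)) :
    p ^ 3 * kpi {p} G ≤ (p ^ 2 + p - 1) * Nat.card (P : Subgroup G) := by
  classical
  haveI : Fintype G := Fintype.ofFinite G
  set Z := (center ↥(P : Subgroup G)).map (P : Subgroup G).subtype with hZ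
  let F : Finset G := Finset.univ.filter fun x => x ∈ Z
  have hFc : F.card = Nat.card ↥(center ↥(P : Subgroup G)) := by
    rw [← Subgroup.card_subtype (P : Subgroup G) (center ↥(P : Subgroup G)),
      Nat.card_eq_fintype_card, Fintype.card_subtype]
  have hcount := count_classes P F p (fun x hx hxF => ?_) (fun x hx => map_subtype_le _ (Finset.mem_filter.1 hx).2)
  swap
  · obtain ⟨y, hy, hne⟩ : ∃ y ∈ (P : Subgroup G), ¬ Commute y x := by
      by_contra hcon
      push Not at hcon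
      exact hxF (Finset.mem_filter.2 ⟨Finset.mem_univ _, ⟨x, hx⟩,
        Subgroup.mem_center_iff.2 fun g => Subtype.ext (hcon g g.2).eq, rfl⟩)
    obtain ⟨k, hk⟩ := IsPGroup.iff_orderOf.1 P.2 ⟨y, hy⟩
    rw [Subgroup.orderOf_mk] at hk
    obtain ⟨t, ht, htm⟩ := exists_conj_finset hp.out ⟨k, hk⟩ hne
    refine ⟨t, ht, fun z hz => ?_⟩
    obtain ⟨i, rfl⟩ := htm z hz
    refine ⟨mul_mem (mul_mem (pow_mem hy i) hx) (inv_mem (pow_mem hy i)), fun hzF => hxF ?_,
      isConj_iff.2 ⟨y ^ i, rfl⟩⟩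
    obtain ⟨w, hw, hwx⟩ := (Finset.mem_filter.1 hzF).2
    refine Finset.mem_filter.2 ⟨Finset.mem_univ _, w, hw, ?_⟩
    have hc : y ^ i * (w : G) = (w : G) * y ^ i :=
      congrArg Subtype.val (Subgroup.mem_center_iff.1 hw ⟨y ^ i, pow_mem hy i⟩)
    show (w : G) = x
    calc (w : G) = (y ^ i)⁻¹ * (y ^ i * (w : G)) := by group
      _ = (y ^ i)⁻¹ * ((w : G) * y ^ i) := by rw [hc]
      _ = x := by rw [show (w : G) = y ^ i * x * (y ^ i)⁻¹ from hwx]; group
  obtain ⟨k, hk⟩ := P.2.index (center ↥(P : Subgroup G))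
  have hk2 : 2 ≤ k := by
    by_contra hlt
    haveI : IsCyclic (↥(P : Subgroup G) ⧸ center ↥(P : Subgroup G)) := by
      rw [index_eq_card] at hk
      interval_cases k
      · haveI : Subsingleton (↥(P : Subgroup G) ⧸ center ↥(P : Subgroup G)) :=
          (Nat.card_eq_one_iff_unique.1 (by simpa using hk)).1
        infer_instance
      · exact isCyclic_of_prime_card (p := p) (by simpa using hk)
    exact h ⟨⟨commutative_of_cyclic_center_quotient (QuotientGroup.mk' (center ↥(P : Subgroup G))) (by simp)⟩⟩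
  have h1 := (center ↥(P : Subgroup G)).card_mul_index
  rw [hk, ← hFc] at h1
  have h3 : F.card * p ^ 2 ≤ Nat.card ↥(P : Subgroup G) := by
    rw [← h1]; exact Nat.mul_le_mul_left _ (Nat.pow_le_pow_right hp.out.pos hk2)
  obtain ⟨e, he⟩ : ∃ e, p = e + 2 := ⟨p - 2, by have := hp.out.two_le; omega⟩
  subst he
  obtain ⟨w, hw⟩ : ∃ w, (e + 2) ^ 2 + (e + 2) - 1 = w := ⟨_, rfl⟩
  rw [hw]
  have hw' : w + 1 = (e + 2) ^ 2 + (e + 2) := by
    have : 0 < (e + 2) ^ 2 + (e + 2) := by positivity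
    omega
  nlinarith [Nat.mul_le_mul_left (e + 1) h3, Nat.mul_le_mul_left ((e + 2) ^ 2) hcount]

/-- Sylow subgroups for the primes above `p` are abelian. -/
theorem abelian_of_many {p q : ℕ} [hq : Fact q.Prime] (hpq : p < q) (Q : Sylow q G)
    (h : Nat.card (Q : Subgroup G) < p * kpi {q} G) : IsMulCommutative ↥(Q : Subgroup G) := by
  by_contra hab
  have hb := nonabelian_bound Q hab
  obtain ⟨w, hw⟩ : ∃ w, q ^ 2 + q - 1 = w := ⟨_, rfl⟩
  rw [hw] at hb
  have hw' : w + 1 = q ^ 2 + q := by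
    have := hq.out.two_le
    have : 0 < q ^ 2 + q := by positivity
    omega
  have h1 : p * w ≤ q ^ 3 := by
    have : p + 1 ≤ q := hpq
    nlinarith [Nat.mul_le_mul_right w this]
  have h2 : q ^ 3 * Nat.card (Q : Subgroup G) < q ^ 3 * (p * kpi {q} G) :=
    Nat.mul_lt_mul_of_pos_left h (pow_pos hq.out.pos 3)
  have h3 := Nat.mul_le_mul_left p hb
  nlinarith [Nat.mul_le_mul_right (Nat.card (Q : Subgroup G)) h1]

end Cfsg.Lib.ManyPiClasses
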