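import Cfsg.Agent.ManyPiClasses.Assemble
import Cfsg.Agent.Transfer.Control
import Cfsg.Agent.Chars.PrimePairs

/-!
# Transfer, Frattini and derived subgroups
-/

set_option autoImplicit false
set_option linter.unusedSectionVars false
set_option linter.style.haveILetI false

namespace Cfsg.Lib.ManyPiClasses

open Subgroup
open Cfsg.Lib.ClassCount
open scoped Pointwise commutatorElement

universe u

variable {G : Type u} [Group G] [Finite G]

/-- An element of an abelian Sylow subgroup central in its normaliser survives the transfer. -/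
theorem exists_normal_of_central {q : ℕ} [hq : Fact q.Prime] (Q : Sylow q G)
    (hQab : IsMulCommutative ↥(Q : Subgroup G)) {x : G} (hx : x ∈ (Q : Subgroup G)) (hx1 : x ≠ 1)
    (hcen : ∀ n ∈ normalizer ((Q : Subgroup G) : Set G), n * x * n⁻¹ = x) :
    ∃ K : Subgroup G, K.Normal ∧ K ≠ ⊤ ∧ ∃ k, K.index = q ^ k := by
  haveI := hQab
  letI : CommGroup ↥(Q : Subgroup G) :=
    { (inferInstance : Group ↥(Q : Subgroup G)) with mul_comm := fun a b => mul_comm' a b }
  let V : G →* ↥(Q : Subgroup G) := MonoidHom.transfer (MonoidHom.id ↥(Q : Subgroup G))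
  have hcen' : ∀ (k : ℕ), ∀ n ∈ normalizer ((Q : Subgroup G) : Set G), n * x ^ k * n⁻¹ = x ^ k :=
    fun k n hn => by rw [← conj_pow, hcen n hn]
  have key : ∀ (k : ℕ) (g₀ : G), g₀⁻¹ * x ^ k * g₀ ∈ (Q : Subgroup G) → g₀⁻¹ * x ^ k * g₀ = x ^ k := by
    intro k g₀ hg
    obtain ⟨n, hn, he⟩ := Cfsg.Lib.Transfer.abelian_sylow_fusion Q hQab (x ^ k) g₀⁻¹ (pow_mem hx k)
      (by rwa [inv_inv])
    rw [inv_inv] at he
    rw [he, hcen' k n hn]
  have hV : V x ≠ 1 := by
    rw [show V x = _ from MonoidHom.transfer_eq_pow (MonoidHom.id ↥(Q : Subgroup G)) x key]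
    intro h
    have h1 : x ^ (Q : Subgroup G).index = 1 := congrArg Subtype.val h
    obtain ⟨k, hk⟩ := IsPGroup.iff_orderOf.1 Q.2 ⟨x, hx⟩
    rw [Subgroup.orderOf_mk] at hk
    exact hx1 (orderOf_eq_one_iff.1 (Nat.eq_one_of_dvd_coprimes
      (Nat.Coprime.pow_left k (hq.out.coprime_iff_not_dvd.2 Q.not_dvd_index)) (hk ▸ dvd_rfl) (orderOf_dvd_of_pow_eq_one h1)))
  refine ⟨V.ker, inferInstance, fun h => hV (MonoidHom.mem_ker.1 (h ▸ mem_top x)), ?_⟩
  rw [Subgroup.index_ker]
  obtain ⟨k, hk⟩ := IsPGroup.iff_card.1 Q.2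
  obtain ⟨i, -, hi⟩ := (Nat.dvd_prime_pow hq.out).1 (hk ▸ V.range.card_subgroup_dvd_card)
  exact ⟨i, hi⟩

theorem piPart_eq_of_index {π : Finset ℕ} {q k : ℕ} (hq : q.Prime) (hqπ : q ∈ π)
    (K : Subgroup G) (hK : K.index = q ^ k) : piPart π G = piPart π K * q ^ k := by
  classical
  have hfac : ∀ r, (Nat.card G).factorization r = (Nat.card K).factorization r + if r = q then k else 0 := by
    intro r
    rw [← K.card_mul_index, hK, Nat.factorization_mul Nat.card_pos.ne' (pow_ne_zero _ hq.ne_zero),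
      Finsupp.add_apply, hq.factorization_pow, Finsupp.single_apply]
    simp [eq_comm]
  unfold piPart
  rw [Finset.prod_congr rfl fun r _ => show r ^ (Nat.card G).factorization r =
    r ^ (Nat.card K).factorization r * (if r = q then q ^ k else 1) by
      rw [hfac r, pow_add]; split_ifs with h <;> simp [h]]
  rw [Finset.prod_mul_distrib, Finset.prod_ite_eq' π q fun _ => q ^ k, if_pos hqπ]

/-- The hypothesis passes to a normal subgroup of `q`-power index. -/
theorem many_normal {π : Finset ℕ} {p q k : ℕ} (hq : q.Prime) (hqπ : q ∈ π)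
    (K : Subgroup G) [K.Normal] (hK : K.index = q ^ k) (h : piPart π G < p * kpi π G) :
    piPart π K < p * kpi π K := by
  have hiff : ∀ (X : Type u) [Group X] [Finite X], kpi π X = Nat.card {C : ConjClasses X //
      ∀ r : ℕ, r.Prime → (∃ g : X, ConjClasses.mk g = C ∧ r ∣ orderOf g) → r ∈ π} := fun X _ _ =>
    Nat.card_congr (Equiv.subtypeEquivRight fun C =>
      ⟨fun hC r hr ⟨g, hg, hd⟩ => hC g (ConjClasses.mem_carrier_iff_mk_eq.2 hg) r hr hd,
        fun hC x hx r hr hd => hC r hr ⟨x, ConjClasses.mem_carrier_iff_mk_eq.1 hx, hd⟩⟩)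
  have h1 : kpi π G ≤ kpi π K * kpi π (G ⧸ K) := by
    rw [hiff, hiff, hiff]
    exact Cfsg.Lib.SolvStruct.card_piClasses_le_mul K fun r => r ∈ π
  have h2 : kpi π (G ⧸ K) ≤ q ^ k := by
    rw [← hK, Subgroup.index_eq_card]
    exact (Nat.card_le_card_of_injective (fun c : Cl (G := G ⧸ K) π => c.1) Subtype.val_injective).trans
      (Nat.card_le_card_of_surjective ConjClasses.mk ConjClasses.mk_surjective)
  rw [piPart_eq_of_index hq hqπ K hK] at h
  have h3 := Nat.mul_le_mul_left p (h1.trans (Nat.mul_le_mul_left _ h2))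
  rw [← mul_assoc] at h3
  exact Nat.lt_of_mul_lt_mul_right (h.trans_le h3)

/-- In a nilpotent Hall subgroup a Sylow subgroup is normalised by the normaliser. -/
theorem normalizer_le_normalizer {H : Subgroup G} (hH : Group.IsNilpotent H) {r : ℕ} [Fact r.Prime]
    (R : Sylow r G) (hR : (R : Subgroup G) ≤ H) :
    normalizer (H : Set G) ≤ normalizer ((R : Subgroup G) : Set G) := by
  have hall : ∀ (q : ℕ) (_ : Fact q.Prime) (S : Sylow q H), (S : Subgroup H).Normal :=
    ((Group.isNilpotent_of_finite_tfae (G := H)).out 0 3).1 hH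
  haveI := Sylow.unique_of_normal (R.subtype hR) (hall r inferInstance _)
  have key : ∀ y ∈ normalizer (H : Set G), ∀ s ∈ (R : Subgroup G), y * s * y⁻¹ ∈ (R : Subgroup G) := by
    intro y hy s hs
    have hyH : y * s * y⁻¹ ∈ H := (mem_normalizer_iff.1 hy s).1 (hR hs)
    obtain ⟨k, hk⟩ := IsPGroup.iff_orderOf.1 R.2 ⟨s, hs⟩
    rw [Subgroup.orderOf_mk] at hk
    have hz : IsPGroup r (zpowers (⟨y * s * y⁻¹, hyH⟩ : H)) := IsPGroup.of_card (n := k) (by
      rw [Nat.card_zpowers, Subgroup.orderOf_mk, ← hk]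
      exact (MulAut.conj y).orderOf_eq s)
    obtain ⟨S, hS⟩ := hz.exists_le_sylow
    rw [Subsingleton.elim S (R.subtype hR)] at hS
    have := hS (mem_zpowers _)
    rwa [Sylow.coe_subtype, mem_subgroupOf] at this
  intro y hy
  rw [mem_normalizer_iff]
  refine fun s => ⟨key y hy s, fun h => ?_⟩
  have := key y⁻¹ (inv_mem hy) _ h
  simpa [mul_assoc] using this

/-- Frattini's argument for a nilpotent Hall subgroup of a normal subgroup. -/
theorem index_mul_card_dvd_normalizer {π : Finset ℕ} (hπ : ∀ r ∈ π, r.Prime) (K : Subgroup G) [K.Normal]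
    {H : Subgroup K} (hH : Group.IsNilpotent H) (hcard : Nat.card H = piPart π K) :
    piPart π K * K.index ∣ Nat.card (normalizer ((H.map K.subtype : Subgroup G) : Set G)) := by
  set HG := H.map K.subtype
  set N := normalizer (HG : Set G)
  have hsup : N ⊔ K = ⊤ := by
    refine eq_top_iff.2 fun g _ => ?_
    let φ : K ≃* K := MulAut.conjNormal g
    have hcd : Nat.card (H.map φ.toMonoidHom) = Nat.card H :=
      card_map_of_injective φ.injective
    obtain ⟨x, hx⟩ := Cfsg.Lib.SolvStruct.exists_conj_ge hH (hall_coprime hπ hcard) (H.map φ.toMonoidHom)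
      fun p _ hd => hcd ▸ hd
    have hxc : Nat.card (MulAut.conj x • H : Subgroup K) = Nat.card H :=
      (Cfsg.Lib.SolvStruct.hall_conj_props hH (hall_coprime hπ hcard) x).1
    have heq := eq_of_le_of_card_ge hx (le_of_eq (hxc.trans hcd.symm))
    have hmem : (x : G)⁻¹ * g ∈ N := by
      have key : ∀ s : G, s ∈ HG → (x : G)⁻¹ * g * s * ((x : G)⁻¹ * g)⁻¹ ∈ HG := by
        rintro _ ⟨s, hs, rfl⟩
        have h1 : φ s ∈ MulAut.conj x • H := heq ▸ ⟨s, hs, rfl⟩
        rw [Subgroup.mem_pointwise_smul_iff_inv_smul_mem, MulAut.smul_def, MulAut.conj_inv_apply] at h1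
        refine ⟨_, h1, ?_⟩
        show (x : G)⁻¹ * (φ s : G) * x = _
        rw [show ((φ s : K) : G) = g * s * g⁻¹ from MulAut.conjNormal_apply g s]
        show _ = (x : G)⁻¹ * g * (s : G) * ((x : G)⁻¹ * g)⁻¹
        group
      refine mem_normalizer_iff.2 fun s => ⟨key s, fun h => ?_⟩
      have hsub : HG.map (MulAut.conj ((x : G)⁻¹ * g)).toMonoidHom = HG :=
        eq_of_le_of_card_ge (by rintro _ ⟨w, hw, rfl⟩; exact key w hw)
          (le_of_eq (card_map_of_injective (MulAut.conj ((x : G)⁻¹ * g)).injective).symm)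
      obtain ⟨w, hw, hws⟩ := (hsub.ge h : _ ∈ HG.map (MulAut.conj ((x : G)⁻¹ * g)).toMonoidHom)
      have : w = s := (MulAut.conj ((x : G)⁻¹ * g)).injective hws
      exact this ▸ hw
    rw [show g = (x : G) * ((x : G)⁻¹ * g) by group]
    exact Subgroup.mul_mem (N ⊔ K) (mem_sup_right x.2) (mem_sup_left hmem)
  have h1 : K.relIndex N = K.index := by
    rw [← relIndex_sup_right, hsup, relIndex_top_right]
  rw [← (K.subgroupOf N).card_mul_index, show (K.subgroupOf N).index = K.relIndex N from rfl, h1]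
  refine Nat.mul_dvd_mul_right ?_ _
  rw [← hcard, ← card_map_of_injective K.subtype_injective, ← Nat.card_congr (subgroupOfEquivOfLe
    (show HG ≤ N from le_normalizer)).toEquiv]
  exact card_dvd_of_le (comap_mono (map_subtype_le _))

/-- More than `|P| / p` classes of `p`-elements force a small derived subgroup. -/
theorem card_commutator_le {p : ℕ} [hp : Fact p.Prime] (P : Sylow p G)
    (h : Nat.card (P : Subgroup G) < p * kpi {p} G) : Nat.card (commutator ↥(P : Subgroup G)) ≤ p := by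
  classical
  by_contra hlt
  set X := ↥(P : Subgroup G)
  obtain ⟨i, hi⟩ := IsPGroup.iff_card.1 (P.2.to_subgroup (commutator X))
  have hi2 : 2 ≤ i := by
    by_contra hh
    exact hlt (hi ▸ (Nat.pow_le_pow_right hp.out.pos (show i ≤ 1 by omega)).trans (le_of_eq (pow_one p)))
  have hidx : (commutator X).index * p ^ 2 ≤ Nat.card X := by
    rw [← (commutator X).card_mul_index, mul_comm, hi]
    exact Nat.mul_le_mul_right _ (Nat.pow_le_pow_right hp.out.pos hi2)
  have hsum := Cfsg.Lib.Chars.sum_deg_sq_nat (G := X)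
  have hk : kpi {p} G ≤ Nat.card (Cfsg.IrrCharacter X) :=
    (kpi_singleton_le_classes P).trans (le_of_eq Cfsg.Lib.Chars.card_irrCharacter.symm)
  have hone : ∀ χ : Cfsg.IrrCharacter X,
      (χ : X → ℂ) 1 = 1 ∨ p ^ 2 ≤ Cfsg.Lib.Chars.deg (χ : X → ℂ) ^ 2 := by
    intro χ
    obtain ⟨b, hb⟩ := IsPGroup.iff_card.1 P.2
    obtain ⟨a, -, ha⟩ := (Nat.dvd_prime_pow hp.out).1 (hb ▸ Cfsg.Lib.Chars.IsIrrCharacter.deg_dvd χ.2)
    rcases Nat.eq_zero_or_pos a with rfl | hpos
    · left
      rw [Cfsg.Lib.Chars.irr_apply_one_eq_deg, ha, pow_zero, Nat.cast_one]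
    · right
      rw [ha]
      exact Nat.pow_le_pow_left (Nat.le_self_pow hpos.ne' p) 2
  set L := Finset.univ.filter fun χ : Cfsg.IrrCharacter X => (χ : X → ℂ) 1 = 1
  have hL : L.card = (commutator X).index := by
    rw [← Cfsg.Lib.Chars.PrimePairs.card_linear, Nat.card_eq_fintype_card, Fintype.card_subtype]
  have hbound : p ^ 2 * Fintype.card (Cfsg.IrrCharacter X) ≤ Nat.card X + (p ^ 2 - 1) * L.card := by
    rw [← hsum, ← Finset.card_univ, mul_comm (p ^ 2), ← smul_eq_mul, ← Finset.sum_const,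
      mul_comm, ← smul_eq_mul, ← Finset.sum_const, Finset.sum_filter]
    refine le_of_le_of_eq ?_ (Finset.sum_add_distrib (s := Finset.univ)
      (f := fun χ : Cfsg.IrrCharacter X => Cfsg.Lib.Chars.deg (χ : X → ℂ) ^ 2)
      (g := fun χ => if (χ : X → ℂ) 1 = 1 then p ^ 2 - 1 else 0))
    refine Finset.sum_le_sum fun χ _ => ?_
    rcases hone χ with h1 | h1
    · have hd : Cfsg.Lib.Chars.deg (χ : X → ℂ) = 1 := by
        have := Cfsg.Lib.Chars.irr_apply_one_eq_deg χ
        rw [h1] at this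
        exact_mod_cast this.symm
      rw [hd, if_pos h1]
      have : 1 ≤ p ^ 2 := Nat.one_le_pow _ _ hp.out.pos
      omega
    · exact h1.trans (Nat.le_add_right _ _)
  rw [← Nat.card_eq_fintype_card, hL] at hbound
  have h4 : p ^ 2 * kpi {p} G ≤ Nat.card X + (p ^ 2 - 1) * (commutator X).index :=
    (Nat.mul_le_mul_left _ hk).trans hbound
  obtain ⟨w, hw⟩ : ∃ w, p ^ 2 = w + 1 := ⟨p ^ 2 - 1, (Nat.sub_add_cancel (Nat.one_le_pow _ _ hp.out.pos)).symm⟩
  have h2 := hp.out.two_le
  rw [hw, Nat.add_sub_cancel] at h4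
  rw [hw] at hidx
  have h5 : (w + 1) ^ 2 * (p * kpi {p} G) ≤ p * (2 * w + 1) * Nat.card X := by
    have := Nat.mul_le_mul_left (p * (w + 1)) h4
    have := Nat.mul_le_mul_left (p * w) hidx
    nlinarith
  have h6 : p * (2 * w + 1) ≤ (w + 1) ^ 2 := by
    have : p * 2 ≤ w + 1 := hw ▸ (by rw [pow_two]; exact Nat.mul_le_mul_left p h2)
    nlinarith [Nat.mul_le_mul_right (w + 1) this]
  have h7 := Nat.mul_le_mul_right (Nat.card X) h6
  have h8 : (w + 1) ^ 2 * Nat.card X < (w + 1) ^ 2 * (p * kpi {p} G) :=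
    Nat.mul_lt_mul_of_pos_left h (by positivity)
  omega

end Cfsg.Lib.ManyPiClasses
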