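import Cfsg.Agent.ManyPiClasses.Pair
import Cfsg.Agent.ManyPiClasses.Structure

/-!
# Many classes of π-elements force a nilpotent Hall π-subgroup

Induction on `|G| + |π|`, with `q` the largest prime of `π` and `Q` a Sylow `q`-subgroup (abelian).  If `N(Q)`
centralises a nonidentity element of `Q`, transfer gives a normal subgroup of `q`-power index and the Frattini
argument finishes.  Otherwise counting the classes through their `q`-parts gives some `x ∈ Q` whose centraliser has a
normal complement for each of the other primes, and an abelian Hall subgroup for them centralises `Q`.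
-/

set_option autoImplicit false
set_option linter.unusedSectionVars false
set_option linter.style.haveILetI false

namespace Cfsg.Lib.ManyPiClasses

open Subgroup
open Cfsg.Lib.ClassCount
open scoped Pointwise

universe u

/-- Adding a centralising Sylow subgroup. -/
theorem finish {G : Type u} [Group G] [Finite G] {π : Finset ℕ} (hπ : ∀ r ∈ π, r.Prime) {q : ℕ} [hq : Fact q.Prime]
    (hqπ : q ∈ π) {H : Subgroup G} (hH : Group.IsNilpotent H) (hcard : Nat.card H = piPart (π.erase q) G)
    (Q : Sylow q G) (hc : (Q : Subgroup G) ≤ centralizer (H : Set G)) :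
    ∃ L : Subgroup G, Nat.card L = piPart π G ∧ Group.IsNilpotent L := by
  have hcop : (Nat.card H).Coprime (Nat.card (Q : Subgroup G)) := by
    rw [Q.card_eq_multiplicity]
    refine Nat.Coprime.pow_right _ (Nat.Coprime.symm (hq.out.coprime_iff_not_dvd.2 fun hd => ?_))
    exact (Finset.mem_erase.1 (mem_of_dvd_piPart (fun r hr => hπ r (Finset.mem_of_mem_erase hr)) hq.out
      (hcard ▸ hd))).1 rfl
  obtain ⟨h1, h2⟩ := product_props hc hcop hH Q.2.isNilpotent
  exact ⟨_, by rw [h1, hcard, piPart_eq hqπ, Q.card_eq_multiplicity, mul_comm], h2⟩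

theorem exists_hall_aux : ∀ (n : ℕ) (G : Type u) [Group G] [Finite G] (π : Finset ℕ),
    Nat.card G + π.card = n → (∀ r ∈ π, r.Prime) → ∀ p ∈ π, (∀ r ∈ π, p ≤ r) →
    piPart π G < p * kpi π G → ∃ H : Subgroup G, Nat.card H = piPart π G ∧ Group.IsNilpotent H := by
  intro n
  induction n using Nat.strong_induction_on with
  | _ n ih =>
  intro G _ _ π hn hπ p hpπ hmin hmany
  classical
  obtain ⟨q, hqπ, hqmax⟩ := π.exists_max_image id ⟨p, hpπ⟩
  simp only [id_eq] at hqmax
  haveI hq : Fact q.Prime := ⟨hπ q hqπ⟩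
  by_cases hqp : q = p
  · subst hqp
    have hsing : π = {q} := Finset.eq_singleton_iff_unique_mem.2
      ⟨hqπ, fun r hr => le_antisymm (hqmax r hr) (hmin r hr)⟩
    obtain ⟨Q⟩ : Nonempty (Sylow q G) := inferInstance
    exact ⟨Q, by rw [hsing, card_sylow], Q.2.isNilpotent⟩
  haveI hpf : Fact p.Prime := ⟨hπ p hpπ⟩
  have hpq : p < q := lt_of_le_of_ne (hmin q hqπ) (Ne.symm hqp)
  set σ := π.erase q with hσdef
  have hσπ : σ ⊆ π := Finset.erase_subset _ _
  have hσ : ∀ r ∈ σ, r.Prime := fun r hr => hπ r (hσπ hr)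
  have hpσ : p ∈ σ := Finset.mem_erase.2 ⟨hpq.ne, hpπ⟩
  have hminσ : ∀ r ∈ σ, p ≤ r := fun r hr => hmin r (hσπ hr)
  have hσlt : ∀ r ∈ σ, r < q := fun r hr =>
    lt_of_le_of_ne (hqmax r (hσπ hr)) (Finset.mem_erase.1 hr).1
  have hpair : ∀ r ∈ σ, piPart {r, q} G < r * kpi {r, q} G := fun r hr =>
    lt_of_lt_of_le (many_of_subset hπ (Finset.insert_subset (hσπ hr) (Finset.singleton_subset_iff.2 hqπ)) hmany)
      (Nat.mul_le_mul_right _ (hminσ r hr))
  have hmσ := many_of_subset hπ hσπ hmany
  obtain ⟨Q⟩ : Nonempty (Sylow q G) := inferInstance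
  have hQk : Nat.card (Q : Subgroup G) < p * kpi {q} G := by
    rw [card_sylow]
    exact many_of_subset hπ (Finset.singleton_subset_iff.2 hqπ) hmany
  haveI hQab := abelian_of_many hpq Q hQk
  have hσcard : σ.card < π.card := Finset.card_erase_lt_of_mem hqπ
  by_cases hfix : ∃ x ∈ (Q : Subgroup G), x ≠ 1 ∧ ∀ m ∈ normalizer ((Q : Subgroup G) : Set G), m * x * m⁻¹ = x
  · -- transfer
    obtain ⟨x, hxQ, hx1, hcen⟩ := hfix
    obtain ⟨K, hKn, hKtop, k, hk⟩ := exists_normal_of_central Q hQab hxQ hx1 hcen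
    haveI := hKn
    have hKlt : Nat.card K < Nat.card G :=
      lt_of_le_of_ne K.card_le_card_group fun e => hKtop (eq_top_of_card_eq K e)
    obtain ⟨HK, hHKc, hHKn⟩ := ih (Nat.card K + π.card) (by omega) K π rfl hπ p hpπ hmin
      (many_normal hq.out hqπ K hk hmany)
    set HG := HK.map K.subtype
    have hHGn : Group.IsNilpotent HG := by
      haveI := hHKn
      exact Group.nilpotent_of_surjective (HK.equivMapOfInjective K.subtype K.subtype_injective).toMonoidHom
        (MulEquiv.surjective _)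
    have hdvd := index_mul_card_dvd_normalizer hπ K hHKn hHKc
    set N := normalizer (HG : Set G)
    have hqN : q ^ (Nat.card G).factorization q ∣ Nat.card N := by
      refine Dvd.dvd.trans ?_ hdvd
      rw [hk, ← piPart_eq_of_index hq.out hqπ K hk]
      exact pow_dvd_piPart hqπ
    obtain ⟨S₀, hS₀⟩ := Sylow.exists_subgroup_card_pow_prime q (G := N) hqN
    obtain ⟨Q', hQ'⟩ : ∃ Q' : Sylow q G, (Q' : Subgroup G) ≤ N :=
      ⟨Sylow.ofCard (S₀.map N.subtype) (by rw [card_subtype, hS₀]),
        by rw [Sylow.coe_ofCard]; exact map_subtype_le _⟩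
    haveI hQ'ab := abelian_of_many hpq Q' (by rw [card_sylow]; rw [card_sylow] at hQk; exact hQk)
    have hfac : ∀ r ∈ σ, (Nat.card K).factorization r = (Nat.card G).factorization r := by
      intro r hr
      rw [← K.card_mul_index, hk, Nat.factorization_mul Nat.card_pos.ne' (pow_ne_zero _ hq.out.ne_zero),
        Finsupp.add_apply, hq.out.factorization_pow, Finsupp.single_apply,
        if_neg (fun e => (Finset.mem_erase.1 hr).1 e.symm), add_zero]
    have hex : ∀ r, r ∈ σ → ∃ R : Subgroup G, R ≤ HG ∧ IsPGroup r R ∧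
        Nat.card R = r ^ (Nat.card G).factorization r ∧ (Q' : Subgroup G) ≤ centralizer (R : Set G) := by
      intro r hr
      haveI : Fact r.Prime := ⟨hσ r hr⟩
      obtain ⟨R₀, hR₀⟩ := Sylow.exists_subgroup_card_pow_prime r (G := HK)
        (hHKc ▸ pow_dvd_piPart (G := K) (hσπ hr))
      let R₁ : Subgroup G := (R₀.map HK.subtype).map K.subtype
      have hR₁ : Nat.card R₁ = r ^ (Nat.card G).factorization r := by
        rw [card_subtype, card_subtype, hR₀, hfac r hr]
      let R : Sylow r G := Sylow.ofCard R₁ hR₁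
      have hRle : (R : Subgroup G) ≤ HG := by
        rw [Sylow.coe_ofCard]
        exact map_mono (map_subtype_le _)
      exact ⟨R, hRle, R.2, R.card_eq_multiplicity, le_centralizer_of_many (hσlt r hr) R Q' hQ'ab (hpair r hr)
        (hQ'.trans (normalizer_le_normalizer hHGn R hRle))⟩
    choose Rf hRle hRp hRc hRQ using hex
    let R : ℕ → Subgroup G := fun r => if h : r ∈ σ then Rf r h else ⊥
    have hRdef : ∀ r (h : r ∈ σ), R r = Rf r h := fun r h => dif_pos h
    obtain ⟨H, hHc, hHn, -, hHle, -⟩ := assemble hσ R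
      (fun r hr => by rw [hRdef r hr]; exact ⟨hRp r hr, hRc r hr⟩) (fun r hr t ht hrt => by
        rw [hRdef r hr, hRdef t ht]
        haveI : Fact r.Prime := ⟨hσ r hr⟩
        haveI : Fact t.Prime := ⟨hσ t ht⟩
        exact centralize_in_nilpotent hHGn hrt (hRp r hr) (hRp t ht) (hRle r hr) (hRle t ht))
    refine finish hπ hqπ hHn hHc Q' ?_
    rw [le_centralizer_iff]
    refine hHle.trans (Finset.sup_le fun r hr => ?_)
    rw [hRdef r hr, le_centralizer_iff]
    exact hRQ r hr
  -- no element of `Q` is central in the normaliser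
  obtain ⟨H, hHc, hHn⟩ := ih (Nat.card G + σ.card) (by omega) G σ rfl hσ p hpσ hminσ hmσ
  set CH := centralizer (H : Set G)
  obtain ⟨S₀⟩ : Nonempty (Sylow q CH) := inferInstance
  by_cases hfull : (Nat.card CH).factorization q = (Nat.card G).factorization q
  · obtain ⟨Q', hQ'⟩ := exists_sylow_eq_map CH S₀ hfull
    exact finish hπ hqπ hHn hHc Q' (by rw [hQ']; exact map_subtype_le _)
  set c := Nat.card (Q : Subgroup G)
  set s := Nat.card (S₀ : Subgroup CH)
  have hs : q * s ≤ c := by
    show q * Nat.card (S₀ : Subgroup CH) ≤ Nat.card (Q : Subgroup G)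
    rw [Q.card_eq_multiplicity, S₀.card_eq_multiplicity, ← pow_succ']
    have := (Nat.factorization_le_iff_dvd Nat.card_pos.ne' Nat.card_pos.ne').2 CH.card_subgroup_dvd_card q
    exact Nat.pow_le_pow_right hq.out.pos (by omega)
  have hs1 : 1 ≤ s := Nat.card_pos
  have hk2 : 2 * kpi {q} G ≤ c + 1 := by
    haveI : Fintype G := Fintype.ofFinite G
    have := count_classes Q {1} 2 (fun x hx hx1 => ?_) (fun x hx => by simp at hx; simp [hx])
    · simp only [Finset.card_singleton] at this; omega
    rw [Finset.mem_singleton] at hx1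
    have : ¬ ∀ m ∈ normalizer ((Q : Subgroup G) : Set G), m * x * m⁻¹ = x := fun h => hfix ⟨x, hx, hx1, h⟩
    push Not at this
    obtain ⟨m, hm, hne⟩ := this
    refine ⟨{x, m * x * m⁻¹}, by rw [Finset.card_pair (Ne.symm hne)], fun y hy => ?_⟩
    rw [Finset.mem_singleton]
    rcases Finset.mem_insert.1 hy with rfl | hy
    · exact ⟨hx, hx1, IsConj.refl _⟩
    · rw [Finset.mem_singleton] at hy
      subst hy
      exact ⟨(mem_normalizer_iff.1 hm x).1 hx, fun e => hx1 (conj_eq_one_iff.1 e), isConj_iff.2 ⟨m, rfl⟩⟩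
  letI : Fintype (Cl (G := G) {q}) := Fintype.ofFinite _
  choose a haQ hac using exists_rep Q (G := G)
  set M := piPart σ G
  let f : Cl (G := G) {q} → ℕ := fun d => kpi σ ↥(centralizer ({a d} : Set G))
  set succ := Finset.univ.filter fun d : Cl (G := G) {q} => M < p * f d
  have hfle : ∀ d, f d ≤ M := fun d => (kpi_le σ hσ _).trans (piPart_subgroup_le σ hσ _)
  have hfullC : ∀ d ∈ succ, piPart σ ↥(centralizer ({a d} : Set G)) = M := fun d hd =>
    piPart_eq_of_lt hσ hminσ _ (lt_of_lt_of_le (Finset.mem_filter.1 hd).2 (Nat.mul_le_mul_left p (kpi_le σ hσ _)))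
  have hsucc : succ.card ≤ s := by
    have hex : ∀ d ∈ succ, ∃ z : CH, z ∈ (S₀ : Subgroup CH) ∧ ConjClasses.mk (z : G) = d.1 := by
      intro d hd
      set C := centralizer ({a d} : Set G)
      have hC := hfullC d hd
      have hlt : Nat.card C + σ.card < n := by
        have := C.card_le_card_group
        omega
      obtain ⟨H', hH'c, hH'n⟩ := ih _ hlt C σ rfl hσ p hpσ hminσ (hC ▸ (Finset.mem_filter.1 hd).2)
      have hHGc : Nat.card (H'.map C.subtype) = Nat.card H := by rw [card_subtype, hH'c, hC, hHc]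
      obtain ⟨g, hg⟩ := Cfsg.Lib.SolvStruct.exists_conj_ge hHn (hall_coprime hσ hHc) (H'.map C.subtype)
        fun t _ ht => hHGc ▸ ht
      have heq := eq_of_le_of_card_ge hg
        (le_of_eq ((Cfsg.Lib.SolvStruct.hall_conj_props hHn (hall_coprime hσ hHc) g).1.trans hHGc.symm))
      have hmem : g⁻¹ * a d * g ∈ CH := by
        rw [mem_centralizer_iff]
        intro w hw
        have h1 : g * w * g⁻¹ ∈ C := by
          refine map_subtype_le H' (heq.ge ?_)
          rw [Subgroup.mem_pointwise_smul_iff_inv_smul_mem, MulAut.smul_def, MulAut.conj_inv_apply]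
          simpa [mul_assoc] using hw
        have h2 := mem_centralizer_singleton_iff.1 h1
        calc w * (g⁻¹ * a d * g) = g⁻¹ * ((g * w * g⁻¹) * a d) * g := by group
          _ = g⁻¹ * (a d * (g * w * g⁻¹)) * g := by rw [h2]
          _ = _ := by group
      have hmk : ConjClasses.mk (g⁻¹ * a d * g) = d.1 := by
        rw [← hac d, ConjClasses.mk_eq_mk_iff_isConj]
        exact isConj_iff.2 ⟨g, by group⟩
      have hq' : IsPi {q} (g⁻¹ * a d * g) := d.2 _ (ConjClasses.mem_carrier_iff_mk_eq.2 hmk)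
      obtain ⟨z, hz, hzc⟩ := exists_rep S₀ (⟨ConjClasses.mk (⟨_, hmem⟩ : CH), fun u hu => IsPi.of_isConj
        (ConjClasses.mk_eq_mk_iff_isConj.1 (ConjClasses.mem_carrier_iff_mk_eq.1 hu).symm)
        (by intro t ht hd'; exact hq' t ht (by rwa [← Subgroup.orderOf_coe] at hd'))⟩ : Cl (G := CH) {q})
      refine ⟨z, hz, ?_⟩
      rw [← hmk, ConjClasses.mk_eq_mk_iff_isConj]
      exact MonoidHom.map_isConj CH.subtype (ConjClasses.mk_eq_mk_iff_isConj.1 hzc)
    choose z hzS hzc using hex
    rw [← Nat.card_eq_finsetCard]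
    refine Nat.card_le_card_of_injective
      (fun d : succ => (⟨z d.1 d.2, hzS d.1 d.2⟩ : (S₀ : Subgroup CH))) fun d e h => Subtype.ext (Subtype.ext ?_)
    have : z d.1 d.2 = z e.1 e.2 := congrArg Subtype.val h
    rw [← hzc d.1 d.2, ← hzc e.1 e.2, this]
  have hsum : kpi π G ≤ ∑ d, f d :=
    kpi_le_sum (by rw [Finset.singleton_union, hσdef, Finset.insert_erase hqπ]) a hac
  have hM0 : 0 < M := piPart_pos σ hσ
  have hpi : M * c = piPart π G := by
    rw [piPart_eq (G := G) hqπ]
    show piPart (π.erase q) G * Nat.card (Q : Subgroup G) = _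
    rw [Q.card_eq_multiplicity, mul_comm]
  have hkq : kpi {q} G = Fintype.card (Cl (G := G) {q}) := Nat.card_eq_fintype_card
  have hcount : ∀ A B : ℕ, (∀ d ∈ succ, A * f d ≤ B * M) → ∀ B', (∀ d ∉ succ, A * f d ≤ B' * M) → B' ≤ B →
      A * kpi π G ≤ (B' * kpi {q} G + (B - B') * s) * M := by
    intro A B hB B' hB' hBB
    refine (Nat.mul_le_mul_left A hsum).trans ?_
    rw [Finset.mul_sum]
    calc ∑ d, A * f d ≤ ∑ d, (B' * M + if d ∈ succ then (B - B') * M else 0) := Finset.sum_le_sum fun d _ => by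
          by_cases hd : d ∈ succ
          · rw [if_pos hd, ← Nat.add_mul, Nat.add_sub_cancel' hBB]; exact hB d hd
          · rw [if_neg hd, add_zero]; exact hB' d hd
      _ = Fintype.card (Cl (G := G) {q}) * (B' * M) + succ.card * ((B - B') * M) := by
          rw [Finset.sum_add_distrib, Finset.sum_const, Finset.sum_ite_mem, Finset.univ_inter, Finset.sum_const,
            Finset.card_univ, smul_eq_mul, smul_eq_mul]
      _ ≤ kpi {q} G * (B' * M) + s * ((B - B') * M) := by
          rw [hkq]; exact Nat.add_le_add_left (Nat.mul_le_mul_right _ hsucc) _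
      _ = _ := by ring
  have hfail : ∀ d ∉ succ, p * f d ≤ M := fun d hd =>
    not_lt.1 fun h => hd (Finset.mem_filter.2 ⟨Finset.mem_univ _, h⟩)
  have hp2 := hpf.out.two_le
  have hA : c < kpi {q} G + (p - 1) * s := by
    refine Nat.lt_of_mul_lt_mul_right (a := M) ?_
    have := hcount p p (fun d _ => Nat.mul_le_mul_left p (hfle d)) 1 (fun d hd => by rw [one_mul]; exact hfail d hd)
      (by omega)
    rw [one_mul] at this
    calc c * M = piPart π G := by rw [mul_comm, hpi]
      _ < p * kpi π G := hmany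
      _ ≤ _ := this
  -- a success with a very large count
  obtain ⟨d, hd, hdbig⟩ : ∃ d ∈ succ, (p + 1) * M < 2 * p * f d := by
    by_contra hcon
    push Not at hcon
    have h2 := hcount (2 * p) (p + 1) hcon 2 (fun d hd => by have := hfail d hd; nlinarith) (by omega)
    have h3 : 2 * c * M < (2 * kpi {q} G + (p + 1 - 2) * s) * M := by
      refine lt_of_lt_of_le ?_ h2
      calc 2 * c * M = 2 * piPart π G := by rw [← hpi]; ring
        _ < 2 * (p * kpi π G) := Nat.mul_lt_mul_of_pos_left hmany Nat.two_pos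
        _ = _ := by ring
    have h4 := Nat.lt_of_mul_lt_mul_right h3
    obtain ⟨e, rfl⟩ : ∃ e, p = e + 1 := ⟨p - 1, by omega⟩
    rw [show e + 1 + 1 - 2 = e by omega] at h4
    have h5 : (e + 2) * s ≤ q * s := Nat.mul_le_mul_right s hpq
    nlinarith
  -- so `q ≤ 2p - 2`
  have hq2p : q + 2 ≤ 2 * p := by
    by_contra hcon
    obtain ⟨e, rfl⟩ : ∃ e, p = e + 1 := ⟨p - 1, by omega⟩
    rw [Nat.add_sub_cancel] at hA
    have : (2 * e + 1) * s ≤ q * s := Nat.mul_le_mul_right s (by omega)
    nlinarith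
  have hp3 : p ≠ 2 := fun e => by omega
  have hqodd : q % 2 = 1 := hq.out.eq_two_or_odd.resolve_left (by omega)
  have hpodd : p % 2 = 1 := hpf.out.eq_two_or_odd.resolve_left hp3
  -- elements of `σ`-prime power order normalising `Q` centralise it
  have hcent : ∀ r ∈ σ, ∀ y ∈ normalizer ((Q : Subgroup G) : Set G), (∃ i, orderOf y = r ^ i) →
      y ∈ centralizer ((Q : Subgroup G) : Set G) := by
    intro r hr y hy hyr
    by_contra hyc
    haveI : Fact r.Prime := ⟨hσ r hr⟩
    have hpr := hminσ r hr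
    have hrq := hσlt r hr
    obtain ⟨j, hj, hmod, hf⟩ := fixed_index hrq.ne' Q hy hyr hyc
    have hj2 : 2 ≤ j := by
      by_contra hlt
      rw [show j = 1 by omega, pow_one] at hmod
      obtain ⟨t, ht⟩ := (Nat.modEq_iff_dvd' hq.out.pos).1 hmod.symm
      have hrodd : r % 2 = 1 := (hσ r hr).eq_two_or_odd.resolve_left (by omega)
      have ht2 : 2 ≤ t := by
        by_contra h
        interval_cases t <;> omega
      have : r * 2 ≤ r * t := Nat.mul_le_mul_left r ht2
      omega
    have hb := kpi_fixed_bound (hσ r hr) Q hy hyr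
    set F := Nat.card ↥((Q : Subgroup G) ⊓ centralizer ({y} : Set G))
    have hF : F * q ^ 2 ≤ c := (Nat.mul_le_mul_left F (Nat.pow_le_pow_right hq.out.pos hj2)).trans (le_of_eq hf)
    obtain ⟨e, rfl⟩ : ∃ e, p = e + 1 := ⟨p - 1, by omega⟩
    rw [Nat.add_sub_cancel] at hA
    -- `q² r k ≤ (q² + r - 1) c`
    have h1 : q ^ 2 * (r * kpi {q} G) + c ≤ (q ^ 2 + r) * c := by
      obtain ⟨w, rfl⟩ : ∃ w, r = w + 1 := ⟨r - 1, by omega⟩
      have := Nat.mul_le_mul_left (q ^ 2) hb
      have := Nat.mul_le_mul_left w hF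
      nlinarith
    have h2 : e * r * q * (q * s) ≤ e * r * q * c := Nat.mul_le_mul_left _ hs
    have h3 : r * q ^ 2 * c < r * q ^ 2 * (kpi {q} G + e * s) :=
      Nat.mul_lt_mul_of_pos_left hA (Nat.mul_pos (by omega) (pow_pos hq.out.pos 2))
    have h4 : q ^ 2 + r + e * r * q ≤ r * q ^ 2 := by
      have h5 : e + 3 ≤ q := by omega
      have h6 : r * q * (e + 3) ≤ r * q * q := Nat.mul_le_mul_left _ h5
      have h7 : q * q ≤ q * (2 * r) := Nat.mul_le_mul_left q (by omega)
      nlinarith
    nlinarith [Nat.mul_le_mul_right c h4]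
  -- the abelian Hall subgroup in the centralizer of `Q`
  set C := centralizer ({a d} : Set G)
  set D := centralizer ((Q : Subgroup G) : Set G)
  have hDC : D ≤ C := fun y hy => mem_centralizer_singleton_iff.2 (mem_centralizer_iff.1 hy _ (haQ d)).symm
  have hQC : (Q : Subgroup G) ≤ C := fun y hy => mem_centralizer_singleton_iff.2
    (congrArg Subtype.val (mul_comm' (⟨y, hy⟩ : ↥(Q : Subgroup G)) ⟨a d, haQ d⟩))
  have hCfull := hfullC d hd
  have hfacC : ∀ r ∈ σ, (Nat.card C).factorization r = (Nat.card G).factorization r := fun r hr =>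
    factorization_eq_of_piPart hσ C hCfull hr
  have hstrong : ∀ r ∈ σ, Cfsg.HasNormalPComplement r C ∧
      ∀ S : Sylow r C, IsMulCommutative ↥(S : Subgroup C) := by
    intro r hr
    haveI : Fact r.Prime := ⟨hσ r hr⟩
    have hpr := hminσ r hr
    have key : ∀ S : Sylow r C, (r + 1) * Nat.card (S : Subgroup C) < 2 * r * kpi {r} C := by
      intro S
      have h1 : f d ≤ kpi {r} C * piPart (σ.erase r) C :=
        kpi_le_kp (G := C) hσ hr
      have h2 : M = Nat.card (S : Subgroup C) * piPart (σ.erase r) C := by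
        rw [S.card_eq_multiplicity, ← hCfull, piPart_eq hr]
      have h3 : (p + 1) * Nat.card (S : Subgroup C) < 2 * p * kpi {r} C := by
        refine Nat.lt_of_mul_lt_mul_right (a := piPart (σ.erase r) C) ?_
        calc (p + 1) * Nat.card (S : Subgroup C) * piPart (σ.erase r) C = (p + 1) * M := by rw [h2]; ring
          _ < 2 * p * f d := hdbig
          _ ≤ _ := (Nat.mul_le_mul_left (2 * p) h1).trans (le_of_eq (by ring))
      refine Nat.lt_of_mul_lt_mul_left (a := p) ?_
      calc p * ((r + 1) * Nat.card (S : Subgroup C)) ≤ r * ((p + 1) * Nat.card (S : Subgroup C)) := by nlinarith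
        _ < r * (2 * p * kpi {r} C) := Nat.mul_lt_mul_of_pos_left h3 (by omega)
        _ = _ := by ring
    obtain ⟨S⟩ : Nonempty (Sylow r C) := inferInstance
    exact ⟨(strong_criterion (by omega) S (key S)).2, fun S => (strong_criterion (by omega) S (key S)).1⟩
  have hfacD : ∀ r ∈ σ, (Nat.card D).factorization r = (Nat.card G).factorization r := by
    intro r hr
    haveI : Fact r.Prime := ⟨hσ r hr⟩
    refine le_antisymm ((Nat.factorization_le_iff_dvd Nat.card_pos.ne' Nat.card_pos.ne').2 D.card_subgroup_dvd_card r) ?_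
    refine ((hσ r hr).pow_dvd_iff_le_factorization Nat.card_pos.ne').1 ?_
    set Qc := Q.subtype hQC
    set K := Cfsg.pResidual r C
    have hQK : (Qc : Subgroup C) ≤ K := fun y hy => by
      refine Cfsg.Lib.Transfer.mem_pResidual_of_coprime ?_
      obtain ⟨i, hi⟩ := IsPGroup.iff_orderOf.1 Qc.2 ⟨y, hy⟩
      rw [Subgroup.orderOf_mk] at hi
      rw [hi]
      exact Nat.Coprime.pow_left _ ((Nat.coprime_primes hq.out (hσ r hr)).2 (hσlt r hr).ne')
    set NC := normalizer ((Qc : Subgroup C) : Set C)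
    have hsupC : NC ⊔ K = ⊤ := Sylow.normalizer_sup_eq_top' Qc hQK
    have hKc := Cfsg.Lib.Transfer.hasNormalPComplement_iff_pResidual.1 (hstrong r hr).1
    have hidx : r ^ (Nat.card G).factorization r ∣ K.index := by
      have hd1 : r ^ (Nat.card G).factorization r ∣ Nat.card K * K.index := by
        rw [K.card_mul_index, ← hfacC r hr]
        exact Nat.ordProj_dvd _ _
      exact (Nat.Coprime.pow_left _ hKc.symm).dvd_of_dvd_mul_left hd1
    have hdN : r ^ (Nat.card G).factorization r ∣ Nat.card NC := by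
      rw [← relIndex_top_right K, ← hsupC, relIndex_sup_right] at hidx
      exact hidx.trans (relIndex_dvd_card _ _)
    obtain ⟨R₀, hR₀⟩ := Sylow.exists_subgroup_card_pow_prime r (G := NC) hdN
    have hR₁ : (R₀.map NC.subtype).map C.subtype ≤ D := by
      rintro _ ⟨_, ⟨y, hy, rfl⟩, rfl⟩
      refine hcent r hr _ ?_ ?_
      · have hyn := mem_normalizer_iff.1 y.2
        refine mem_normalizer_iff.2 fun w => ⟨fun hw => ?_, fun hw => ?_⟩
        · have := (hyn ⟨w, hQC hw⟩).1 (by rw [Sylow.coe_subtype, mem_subgroupOf]; exact hw)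
          rwa [Sylow.coe_subtype, mem_subgroupOf] at this
        · have hwC : w ∈ C := by
            have h1 := mul_mem (mul_mem (inv_mem (y : C).2) (hQC hw)) (y : C).2
            simpa [mul_assoc] using h1
          have := (hyn ⟨w, hwC⟩).2 (by rw [Sylow.coe_subtype, mem_subgroupOf]; exact hw)
          rwa [Sylow.coe_subtype, mem_subgroupOf] at this
      · obtain ⟨i, hi⟩ := IsPGroup.iff_orderOf.1 (IsPGroup.of_card (p := r) hR₀) ⟨y, hy⟩
        exact ⟨i, by rw [Subgroup.orderOf_mk] at hi; show orderOf (((y : NC) : C) : G) = _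
                     rw [Subgroup.orderOf_coe, Subgroup.orderOf_coe, hi]⟩
    have := card_dvd_of_le hR₁
    rwa [card_subtype, card_subtype, hR₀] at this
  have habD : ∀ r ∈ σ, ∀ S : Sylow r D, IsMulCommutative ↥(S : Subgroup D) := by
    intro r hr S
    haveI : Fact r.Prime := ⟨hσ r hr⟩
    obtain ⟨T, hT⟩ := (S.2.map (Subgroup.inclusion hDC)).exists_le_sylow
    haveI := (hstrong r hr).2 T
    refine ⟨⟨fun u v => Subtype.ext (Subgroup.inclusion_injective hDC ?_)⟩⟩
    show Subgroup.inclusion hDC ((u : D) * v) = Subgroup.inclusion hDC ((v : D) * u)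
    rw [map_mul, map_mul]
    exact congrArg Subtype.val (mul_comm' (⟨_, hT ⟨u, u.2, rfl⟩⟩ : ↥(T : Subgroup C)) ⟨_, hT ⟨v, v.2, rfl⟩⟩)
  obtain ⟨W, ⟨hW1, hW2⟩, hWab⟩ := exists_abelian_hall (G := D) σ σ hσ subset_rfl
    (fun r hr => by
      haveI : Fact r.Prime := ⟨hσ r hr⟩
      exact Cfsg.Lib.Transfer.hasNormalPComplement_of_injective (Subgroup.inclusion hDC)
        (Subgroup.inclusion_injective hDC) (hstrong r hr).1) habD
  have hWc : Nat.card W = M := by
    refine Nat.dvd_antisymm ?_ ?_
    · refine (Nat.dvd_iff_prime_pow_dvd_dvd _ _).2 fun r i hr hd => ?_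
      rcases Nat.eq_zero_or_pos i with rfl | hi
      · simp
      have hrσ : r ∈ σ := Finset.mem_coe.1 (hW1 r hr ((dvd_pow_self r hi.ne').trans hd))
      refine (pow_dvd_pow r ?_).trans (pow_dvd_piPart hrσ)
      rw [← hfacD r hrσ]
      exact (hr.pow_dvd_iff_le_factorization Nat.card_pos.ne').1 (hd.trans W.card_subgroup_dvd_card)
    · refine Finset.prod_dvd_of_isRelPrime ?_ fun r hr => ?_
      · intro t ht u hu htu
        exact Nat.coprime_iff_isRelPrime.1 (((Nat.coprime_primes (hσ t ht) (hσ u hu)).2 htu).pow _ _)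
      · refine ((Nat.Coprime.pow_left _ ((hσ r hr).coprime_iff_not_dvd.2 (hW2 r (hσ r hr) (Finset.mem_coe.2 hr))))).dvd_of_dvd_mul_right ?_
        rw [W.card_mul_index, ← hfacD r hr]
        exact Nat.ordProj_dvd _ _
  refine finish hπ hqπ (H := W.map D.subtype) ?_ (by rw [card_subtype, hWc]) Q ?_
  · haveI := hWab
    haveI : Group.IsNilpotent W := by
      letI : CommGroup W := { (inferInstance : Group W) with mul_comm := fun a b => mul_comm' a b }
      infer_instance
    exact Group.nilpotent_of_surjective (W.equivMapOfInjective D.subtype D.subtype_injective).toMonoidHom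
      (MulEquiv.surjective _)
  · exact le_centralizer_iff.1 (map_subtype_le W)

/-- Many classes of π-elements force a nilpotent Hall π-subgroup whose derived subgroup is small. -/
theorem exists_hall {G : Type u} [Group G] [Finite G] {π : Finset ℕ} (hπ : ∀ r ∈ π, r.Prime) {p : ℕ} (hp : p ∈ π)
    (hmin : ∀ r ∈ π, p ≤ r) (hmany : piPart π G < p * kpi π G) :
    ∃ H : Subgroup G, Nat.card H = piPart π G ∧ Group.IsNilpotent H ∧ Nat.card (commutator H) ≤ p ∧
      ((∀ P : Sylow p G, IsMulCommutative ↥(P : Subgroup G)) → IsMulCommutative H) := by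
  classical
  obtain ⟨H₀, hH₀c, hH₀n⟩ := exists_hall_aux _ G π rfl hπ p hp hmin hmany
  haveI hpf : Fact p.Prime := ⟨hπ p hp⟩
  have hex : ∀ r, r ∈ π → ∃ R : Subgroup G, R ≤ H₀ ∧ IsPGroup r R ∧
      Nat.card R = r ^ (Nat.card G).factorization r := fun r hr => by
    haveI : Fact r.Prime := ⟨hπ r hr⟩
    obtain ⟨R, hR⟩ := exists_sylow_le hH₀c hr
    exact ⟨R, hR, R.2, R.card_eq_multiplicity⟩
  choose Rf hRle hRp hRc using hex
  let R : ℕ → Subgroup G := fun r => if h : r ∈ π then Rf r h else ⊥
  have hRdef : ∀ r (h : r ∈ π), R r = Rf r h := fun r h => dif_pos h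
  obtain ⟨H, hHc, hHn, -, -, hHA⟩ := assemble hπ R
    (fun r hr => by rw [hRdef r hr]; exact ⟨hRp r hr, hRc r hr⟩) (fun r hr t ht hrt => by
      rw [hRdef r hr, hRdef t ht]
      haveI : Fact r.Prime := ⟨hπ r hr⟩
      haveI : Fact t.Prime := ⟨hπ t ht⟩
      exact centralize_in_nilpotent hH₀n hrt (hRp r hr) (hRp t ht) (hRle r hr) (hRle t ht))
  let P : Sylow p G := Sylow.ofCard (R p) (by rw [hRdef p hp]; exact hRc p hp)
  have hA : ⁅H, H⁆ ≤ ⁅(P : Subgroup G), (P : Subgroup G)⁆ := by
    refine hHA _ fun r hr => ?_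
    rcases eq_or_ne r p with rfl | hne
    · rw [Sylow.coe_ofCard]
    · haveI : Fact r.Prime := ⟨hπ r hr⟩
      let S : Sylow r G := Sylow.ofCard (R r) (by rw [hRdef r hr]; exact hRc r hr)
      haveI := abelian_of_many (lt_of_le_of_ne (hmin r hr) hne.symm) S (by
        rw [card_sylow]; exact many_of_subset hπ (Finset.singleton_subset_iff.2 hr) hmany)
      rw [show R r = (S : Subgroup G) from (Sylow.coe_ofCard _ _).symm,
        commutator_eq_bot_iff_le_centralizer.2 (le_centralizer _)]
      exact bot_le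
  refine ⟨H, hHc, hHn, ?_, fun hab => ?_⟩
  · have hP := card_commutator_le P (by
      rw [card_sylow]; exact many_of_subset hπ (Finset.singleton_subset_iff.2 hp) hmany)
    rw [← card_map_of_injective H.subtype_injective, map_subtype_commutator] at *
    rw [← card_map_of_injective (P : Subgroup G).subtype_injective, map_subtype_commutator] at hP
    exact (card_le_of_le hA).trans hP
  · haveI := hab P
    rw [commutator_eq_bot_iff_le_centralizer.2 (le_centralizer (P : Subgroup G))] at hA
    exact le_centralizer_iff_isMulCommutative.1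
      (commutator_eq_bot_iff_le_centralizer.1 (le_bot_iff.1 hA))

end Cfsg.Lib.ManyPiClasses
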