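import Cfsg.Agent.ManyPiClasses.Assemble

/-!
# A larger prime normalising a Sylow subgroup centralises it when there are many classes
-/

set_option autoImplicit false
set_option linter.unusedSectionVars false
set_option linter.style.haveILetI false

namespace Cfsg.Lib.ManyPiClasses

open Subgroup
open Cfsg.Lib.ClassCount

universe u

variable {G : Type u} [Group G] [Finite G]

theorem le_centralizer_of_many {r q : ℕ} [hr : Fact r.Prime] [hq : Fact q.Prime] (hrq : r < q)
    (R : Sylow r G) (Q : Sylow q G) (hQab : IsMulCommutative ↥(Q : Subgroup G))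
    (h : piPart {r, q} G < r * kpi {r, q} G)
    (hQR : (Q : Subgroup G) ≤ normalizer ((R : Subgroup G) : Set G)) :
    (Q : Subgroup G) ≤ centralizer ((R : Subgroup G) : Set G) := by
  classical
  haveI := hQab
  by_contra hcon
  obtain ⟨y, hyQ, hyC⟩ := SetLike.not_le_iff_exists.1 hcon
  have hsel : ∀ c : Cl (G := G) {q}, ∃ x : G, x ∈ (Q : Subgroup G) ∧ ConjClasses.mk x = c.1 ∧
      ((∃ z ∈ (Q : Subgroup G), z ∈ centralizer ((R : Subgroup G) : Set G) ∧ ConjClasses.mk z = c.1) →
        x ∈ centralizer ((R : Subgroup G) : Set G)) := by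
    intro c
    by_cases hz : ∃ z ∈ (Q : Subgroup G), z ∈ centralizer ((R : Subgroup G) : Set G) ∧ ConjClasses.mk z = c.1
    · obtain ⟨z, h1, h2, h3⟩ := hz
      exact ⟨z, h1, h3, fun _ => h2⟩
    · obtain ⟨x, h1, h2⟩ := exists_rep Q c
      exact ⟨x, h1, h2, fun h' => absurd h' hz⟩
  choose a haQ hac hsel using hsel
  letI : Fintype (Cl (G := G) {q}) := Fintype.ofFinite _
  have hbound : ∀ c, r * kpi {r} ↥(centralizer ({a c} : Set G)) ≤ Nat.card (R : Subgroup G) := by
    intro c
    set C := centralizer ({a c} : Set G)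
    have hyC' : y ∈ C := mem_centralizer_singleton_iff.2
      (congrArg Subtype.val (mul_comm' (⟨y, hyQ⟩ : ↥(Q : Subgroup G)) ⟨a c, haQ c⟩))
    by_cases hc : a c ∈ centralizer ((R : Subgroup G) : Set G)
    · have hRC : (R : Subgroup G) ≤ C := fun s hs =>
        mem_centralizer_singleton_iff.2 (mem_centralizer_iff.1 hc s hs)
      obtain ⟨k, hk⟩ := IsPGroup.iff_orderOf.1 Q.2 ⟨y, hyQ⟩
      rw [Subgroup.orderOf_mk] at hk
      have hb := orbit_bound hrq (R.subtype hRC) (y := ⟨y, hyC'⟩) ?_ ⟨k, by rw [Subgroup.orderOf_mk, hk]⟩ ?_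
      · rwa [Sylow.coe_subtype, Nat.card_congr (Subgroup.subgroupOfEquivOfLe hRC).toEquiv] at hb
      · rw [Sylow.coe_subtype, mem_normalizer_iff]
        exact fun s => mem_normalizer_iff.1 (hQR hyQ) s
      · intro hmem
        refine hyC (mem_centralizer_iff.2 fun s hs => ?_)
        exact congrArg Subtype.val (mem_centralizer_iff.1 hmem ⟨s, hRC hs⟩ (by
          rw [Sylow.coe_subtype]; exact hs))
    · refine (Nat.mul_le_mul_left r (kpi_singleton_le (G := C) (p := r))).trans ?_
      rw [R.card_eq_multiplicity]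
      by_cases hfull : (Nat.card C).factorization r = (Nat.card G).factorization r
      · exfalso
        obtain ⟨S⟩ : Nonempty (Sylow r C) := inferInstance
        obtain ⟨R', hR'⟩ := exists_sylow_eq_map C S hfull
        obtain ⟨g, hg⟩ := MulAction.exists_smul_eq G R' R
        have hx : g * a c * g⁻¹ ∈ centralizer ((R : Subgroup G) : Set G) := by
          rw [mem_centralizer_iff]
          intro s hs
          rw [← hg, Cfsg.Lib.Transfer.sylow_smul_coe] at hs
          obtain ⟨w, hw, rfl⟩ := hs
          rw [SetLike.mem_coe, hR'] at hw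
          have hwc := mem_centralizer_singleton_iff.1 (map_subtype_le _ hw)
          show g * w * g⁻¹ * (g * a c * g⁻¹) = g * a c * g⁻¹ * (g * w * g⁻¹)
          calc g * w * g⁻¹ * (g * a c * g⁻¹) = g * (w * a c) * g⁻¹ := by group
            _ = g * (a c * w) * g⁻¹ := by rw [hwc]
            _ = _ := by group
        have hxN : g * a c * g⁻¹ ∈ normalizer ((R : Subgroup G) : Set G) :=
          Subgroup.centralizer_le_normalizer _ hx
        have hmk : ConjClasses.mk (g * a c * g⁻¹) = c.1 := by
          rw [← hac c, ConjClasses.mk_eq_mk_iff_isConj]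
          exact (isConj_iff.2 ⟨g, rfl⟩).symm
        set N := normalizer ((R : Subgroup G) : Set G)
        have hxq : IsPi {q} (g * a c * g⁻¹) := c.2 _ (ConjClasses.mem_carrier_iff_mk_eq.2 hmk)
        obtain ⟨z, hzQ, hzc⟩ := exists_rep (Q.subtype hQR)
          (⟨ConjClasses.mk (⟨_, hxN⟩ : N), fun u hu => IsPi.of_isConj
            (ConjClasses.mk_eq_mk_iff_isConj.1 (ConjClasses.mem_carrier_iff_mk_eq.1 hu).symm)
            (by intro t ht hd; exact hxq t ht (by rwa [← Subgroup.orderOf_coe] at hd))⟩ : Cl (G := N) {q})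
        obtain ⟨n, hn⟩ := isConj_iff.1 (ConjClasses.mk_eq_mk_iff_isConj.1 hzc).symm
        have hzC : (z : G) ∈ centralizer ((R : Subgroup G) : Set G) := by
          rw [← hn]
          show (n : G) * (g * a c * g⁻¹) * (n : G)⁻¹ ∈ _
          rw [mem_centralizer_iff]
          intro s hs
          have hs' : (n : G)⁻¹ * s * n ∈ ((R : Subgroup G) : Set G) := by
            have := (mem_normalizer_iff.1 (inv_mem n.2) s).1 hs
            rwa [inv_inv] at this
          have := mem_centralizer_iff.1 hx _ hs'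
          calc s * ((n : G) * (g * a c * g⁻¹) * (n : G)⁻¹)
              = (n : G) * (((n : G)⁻¹ * s * n) * (g * a c * g⁻¹)) * (n : G)⁻¹ := by group
            _ = (n : G) * ((g * a c * g⁻¹) * ((n : G)⁻¹ * s * n)) * (n : G)⁻¹ := by rw [this]
            _ = _ := by group
        have hzQ' : (z : G) ∈ (Q : Subgroup G) := by rwa [Sylow.coe_subtype, mem_subgroupOf] at hzQ
        refine hc (hsel c ⟨z, hzQ', hzC, ?_⟩)
        rw [← hmk, ConjClasses.mk_eq_mk_iff_isConj]
        exact MonoidHom.map_isConj N.subtype (ConjClasses.mk_eq_mk_iff_isConj.1 hzc)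
      · have hle := (Nat.factorization_le_iff_dvd Nat.card_pos.ne' Nat.card_pos.ne').2 C.card_subgroup_dvd_card r
        rw [← pow_succ']
        exact Nat.pow_le_pow_right hr.out.pos (by omega)
  have h1 := kpi_le_sum (π := {r, q}) (σ := {q}) (τ := {r})
    (by intro t ht; simpa [or_comm] using ht) a hac
  have h2 : r * kpi {r, q} G ≤ Nat.card (Q : Subgroup G) * Nat.card (R : Subgroup G) := by
    refine (Nat.mul_le_mul_left r h1).trans ?_
    rw [Finset.mul_sum]
    refine (Finset.sum_le_card_nsmul _ _ _ fun c _ => hbound c).trans ?_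
    rw [smul_eq_mul, Finset.card_univ, ← Nat.card_eq_fintype_card]
    refine Nat.mul_le_mul_right _ ?_
    rw [Q.card_eq_multiplicity]
    exact kpi_singleton_le
  rw [show ({r, q} : Finset ℕ) = {r} ∪ {q} from rfl, piPart_mul_of_disjoint (by simp [hrq.ne]),
    ← card_sylow R, ← card_sylow Q, mul_comm] at h
  exact absurd h2 (not_le.2 h)

end Cfsg.Lib.ManyPiClasses
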