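import Cfsg.Agent.ManyPiClasses.Main

/-!
# The hypotheses in terms of a set of primes
-/

set_option autoImplicit false
set_option linter.unusedSectionVars false
set_option linter.style.haveILetI false

namespace Cfsg.Lib.ManyPiClasses

open Subgroup
open Cfsg.Lib.ClassCount

universe u

variable {G : Type u} [Group G] [Finite G]

/-- A finite set of primes with the same classes and the same part of the order. -/
theorem exists_finset (π : Set ℕ) (hπ : ∀ q ∈ π, q.Prime) (p : ℕ) (hp : p ∈ π) (hmin : ∀ q ∈ π, p ≤ q)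
    (m : ℕ) (hm : m ∣ Nat.card G) (hmπ : ∀ q : ℕ, q.Prime → q ∣ m → q ∈ π)
    (hm' : ∀ q ∈ π, ¬ q ∣ Nat.card G / m) :
    ∃ s : Finset ℕ, (∀ r ∈ s, r.Prime) ∧ p ∈ s ∧ (∀ r ∈ s, p ≤ r) ∧ piPart s G = m ∧
      kpi s G = Nat.card {C : ConjClasses G //
        ∀ q : ℕ, q.Prime → (∃ g : G, ConjClasses.mk g = C ∧ q ∣ orderOf g) → q ∈ π} := by
  classical
  set s := insert p ((Nat.card G).primeFactors.filter (fun q => q ∈ π))
  have hsπ : ∀ r ∈ s, r ∈ π := fun r hr => (Finset.mem_insert.1 hr).elim (fun e => e ▸ hp) fun h => (Finset.mem_filter.1 h).2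
  have hmem : ∀ r, r.Prime → r ∣ Nat.card G → r ∈ π → r ∈ s := fun r hr hd hrπ =>
    Finset.mem_insert_of_mem (Finset.mem_filter.2 ⟨Nat.mem_primeFactors.2 ⟨hr, hd, Nat.card_pos.ne'⟩, hrπ⟩)
  have hm0 : m ≠ 0 := fun h => Nat.card_pos.ne' (zero_dvd_iff.1 (h ▸ hm))
  refine ⟨s, fun r hr => hπ r (hsπ r hr), Finset.mem_insert_self _ _, fun r hr => hmin r (hsπ r hr), ?_, ?_⟩
  · refine Nat.dvd_antisymm ?_ ?_
    · refine Finset.prod_dvd_of_isRelPrime ?_ fun r hr => ?_
      · intro a ha b hb hab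
        exact Nat.coprime_iff_isRelPrime.1
          (((Nat.coprime_primes (hπ a (hsπ a ha)) (hπ b (hsπ b hb))).2 hab).pow _ _)
      · refine ((Nat.Prime.coprime_iff_not_dvd (hπ r (hsπ r hr))).2 (hm' r (hsπ r hr))).pow_left _
          |>.dvd_of_dvd_mul_right ?_
        rw [Nat.mul_div_cancel' hm]
        exact Nat.ordProj_dvd _ _
    · refine (Nat.dvd_iff_prime_pow_dvd_dvd _ _).2 fun r i hr hd => ?_
      rcases Nat.eq_zero_or_pos i with rfl | hi
      · simp
      have hrm : r ∣ m := (dvd_pow_self r hi.ne').trans hd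
      exact (pow_dvd_pow r ((hr.pow_dvd_iff_le_factorization Nat.card_pos.ne').1 (hd.trans hm))).trans
        (pow_dvd_piPart (hmem r hr (hrm.trans hm) (hmπ r hr hrm)))
  · refine Nat.card_congr (Equiv.subtypeEquivRight fun C => ⟨fun hC q hq hg => ?_, fun hC x hx r hr hd => ?_⟩)
    · obtain ⟨g, hg, hd⟩ := hg
      exact hsπ q (hC g (ConjClasses.mem_carrier_iff_mk_eq.2 hg) q hq hd)
    · exact hmem r hr (hd.trans (orderOf_dvd_natCard x)) (hC r hr ⟨x, ConjClasses.mem_carrier_iff_mk_eq.1 hx, hd⟩)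

/-- With more than the share `(p² + p - 1) / p³` of the classes, the Sylow `p`-subgroup is abelian. -/
theorem abelian_of_more {s : Finset ℕ} (hs : ∀ r ∈ s, r.Prime) {p : ℕ} [hp : Fact p.Prime] (hps : p ∈ s)
    (h : piPart s G * (p ^ 2 + p - 1) < p ^ 3 * kpi s G) (P : Sylow p G) :
    IsMulCommutative ↥(P : Subgroup G) := by
  by_contra hab
  have h1 := nonabelian_bound P hab
  have h2 : kpi s G ≤ kpi {p} G * piPart (s.erase p) G :=
    kpi_le_kp hs hps
  rw [piPart_eq (G := G) hps, ← P.card_eq_multiplicity] at h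
  have h3 := (Nat.mul_le_mul_left (p ^ 3) h2).trans
    (le_of_eq (mul_assoc (p ^ 3) (kpi {p} G) (piPart (s.erase p) G)).symm)
  have h4 := Nat.mul_le_mul_right (piPart (s.erase p) G) h1
  have h5 : Nat.card (P : Subgroup G) * piPart (s.erase p) G * (p ^ 2 + p - 1) =
      (p ^ 2 + p - 1) * Nat.card (P : Subgroup G) * piPart (s.erase p) G := by ring
  omega

end Cfsg.Lib.ManyPiClasses
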